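import Mathlib
import Cfsg.Agent.H6.Basic

/-!
2-groups without normal elementary abelian subgroups of order 8 that admit a group `A` of
automorphisms of odd order with `[X, A] = X`: first lemmas.
-/

set_option autoImplicit false

namespace H2.ScnEmpty

open scoped commutatorElement

variable {X : Type*} [Group X]

/-- The running hypotheses. -/
structure Setup (A : Subgroup (MulAut X)) : Prop where
  pTwo : IsPGroup 2 X
  odd : Odd (Nat.card A)
  gen : Subgroup.closure {g : X | ∃ φ ∈ A, ∃ x : X, g = x⁻¹ * φ x} = ⊤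
  rank : ∀ N : Subgroup X, N.Normal → (∀ a ∈ N, ∀ b ∈ N, a * b = b * a) → (∀ a ∈ N, a * a = 1) →
    Nat.card N ≤ 4

/-- Invariance of a subgroup under the automorphisms in `A`. -/
def Invar (A : Subgroup (MulAut X)) (N : Subgroup X) : Prop := ∀ φ ∈ A, ∀ n ∈ N, φ n ∈ N

theorem sq_mul {a b : X} (h : a * b = b * a) : a * b * (a * b) = a * a * (b * b) := by
  rw [mul_assoc a b, ← mul_assoc b a b, ← h]; group

/-- The involutions of an abelian subgroup together with `1`. -/
def omegaOf (N : Subgroup X) (hN : ∀ a ∈ N, ∀ b ∈ N, a * b = b * a) : Subgroup X where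
  carrier := {n | n ∈ N ∧ n * n = 1}
  one_mem' := ⟨N.one_mem, one_mul 1⟩
  mul_mem' := fun {a b} ha hb =>
    ⟨N.mul_mem ha.1 hb.1, by rw [sq_mul (hN a ha.1 b hb.1), ha.2, hb.2, one_mul]⟩
  inv_mem' := fun {a} ha => ⟨N.inv_mem ha.1, by rw [← mul_inv_rev, ha.2, inv_one]⟩

theorem mem_omegaOf {N : Subgroup X} {hN : ∀ a ∈ N, ∀ b ∈ N, a * b = b * a} {n : X} :
    n ∈ omegaOf N hN ↔ n ∈ N ∧ n * n = 1 := Iff.rfl

/-- The central involutions together with `1`. -/
def zOne (X : Type*) [Group X] : Subgroup X :=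
  omegaOf (Subgroup.center X) fun a _ b hb => Subgroup.mem_center_iff.mp hb a

theorem mem_zOne {z : X} : z ∈ zOne X ↔ z ∈ Subgroup.center X ∧ z * z = 1 := Iff.rfl

theorem zOne_le_center : zOne X ≤ Subgroup.center X := fun _ h => h.1

theorem zOne_comm {z : X} (hz : z ∈ zOne X) (x : X) : x * z = z * x :=
  Subgroup.mem_center_iff.mp hz.1 x

theorem inv_eq_self {z : X} (hz : z * z = 1) : z⁻¹ = z := inv_eq_of_mul_eq_one_left hz

theorem zOne_invar (A : Subgroup (MulAut X)) : Invar A (zOne X) := by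
  intro φ _ z hz
  refine ⟨Subgroup.mem_center_iff.mpr fun g => ?_, by rw [← map_mul, hz.2, map_one]⟩
  have h := congrArg φ (zOne_comm hz (φ.symm g))
  rwa [map_mul, map_mul, MulEquiv.apply_symm_apply] at h

theorem zOne_normal : (zOne X).Normal := H6.normal_of_le_center zOne_le_center

theorem omegaOf_normal {N : Subgroup X} (hn : N.Normal) (hN : ∀ a ∈ N, ∀ b ∈ N, a * b = b * a) :
    (omegaOf N hN).Normal := by
  constructor
  intro n h g
  refine ⟨hn.conj_mem n h.1 g, ?_⟩
  rw [show g * n * g⁻¹ * (g * n * g⁻¹) = g * (n * n) * g⁻¹ by group, h.2]; group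

theorem omegaOf_invar {A : Subgroup (MulAut X)} {N : Subgroup X} (hi : Invar A N)
    (hN : ∀ a ∈ N, ∀ b ∈ N, a * b = b * a) : Invar A (omegaOf N hN) :=
  fun φ hφ n h => ⟨hi φ hφ n h.1, by rw [← map_mul, h.2, map_one]⟩

theorem eq_of_fixed_of_centralizer {φ : MulAut X} {N : Subgroup X} [hn : N.Normal]
    (hfix : ∀ n ∈ N, φ n = n) (x : X) :
    x⁻¹ * φ x ∈ Subgroup.centralizer (N : Set X) := by
  rw [Subgroup.mem_centralizer_iff]
  intro n h
  have h1 : x * n * x⁻¹ ∈ N := hn.conj_mem n h x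
  have h2 : φ x * n * (φ x)⁻¹ = x * n * x⁻¹ := by
    have := hfix _ h1
    rwa [map_mul, map_mul, map_inv, hfix n h] at this
  calc n * (x⁻¹ * φ x) = x⁻¹ * (x * n * x⁻¹) * φ x := by group
    _ = x⁻¹ * (φ x * n * (φ x)⁻¹) * φ x := by rw [h2]
    _ = x⁻¹ * φ x * n := by group

variable [Finite X] {A : Subgroup (MulAut X)}

theorem Setup.eq_one_of_hom (S : Setup A) {H : Type*} [Group H] (f : X →* H)
    (hf : ∀ φ ∈ A, ∀ x, f (φ x) = f x) (x : X) : f x = 1 := by
  have h : Subgroup.closure {g : X | ∃ φ ∈ A, ∃ x : X, g = x⁻¹ * φ x} ≤ f.ker := by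
    rw [Subgroup.closure_le]
    rintro g ⟨φ, hφ, y, rfl⟩
    simp [MonoidHom.mem_ker, hf φ hφ y]
  rw [S.gen] at h
  exact h (Subgroup.mem_top x)

theorem Setup.le_center_of_fixed (S : Setup A) (N : Subgroup X) (hn : N.Normal)
    (hfix : ∀ φ ∈ A, ∀ n ∈ N, φ n = n) : N ≤ Subgroup.center X := by
  have h : Subgroup.closure {g : X | ∃ φ ∈ A, ∃ x : X, g = x⁻¹ * φ x} ≤
      Subgroup.centralizer (N : Set X) := by
    rw [Subgroup.closure_le]
    rintro g ⟨φ, hφ, x, rfl⟩
    exact eq_of_fixed_of_centralizer (hfix φ hφ) x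
  rw [S.gen] at h
  intro n hN
  exact Subgroup.mem_center_iff.mpr fun g =>
    (Subgroup.mem_centralizer_iff.mp (h (Subgroup.mem_top g)) n hN).symm

theorem Setup.odd_orderOf (S : Setup A) {φ : MulAut X} (hφ : φ ∈ A) : Odd (orderOf φ) := by
  have h : orderOf (⟨φ, hφ⟩ : A) ∣ Nat.card A := orderOf_dvd_natCard _
  rw [Subgroup.orderOf_mk] at h
  exact S.odd.of_dvd_nat h

theorem pow_apply_of_mul {φ : MulAut X} {n e : X} (h1 : φ n = n * e) (h2 : φ e = e) :
    ∀ k : ℕ, (φ ^ k) n = n * e ^ k := by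
  intro k
  induction k with
  | zero => simp
  | succ k ih =>
    rw [pow_succ', MulAut.mul_apply, ih, map_mul, map_pow, h1, h2, mul_assoc, ← pow_succ']

theorem eq_self_of_sq {φ : MulAut X} (hodd : Odd (orderOf φ)) {n : X} (h : (φ ^ 2) n = n) :
    φ n = n := by
  obtain ⟨k, hk⟩ := hodd
  have h2 : ∀ i : ℕ, ((φ ^ 2) ^ i) n = n := by
    intro i
    induction i with
    | zero => simp
    | succ i ih => rw [pow_succ', MulAut.mul_apply, ih, h]
  have h1 := pow_orderOf_eq_one φ
  rw [hk, pow_succ, pow_mul] at h1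
  have h3 : φ = ((φ ^ 2) ^ k)⁻¹ := eq_inv_of_mul_eq_one_right h1
  have h4 : φ n = ((φ ^ 2) ^ k)⁻¹ n := by rw [← h3]
  rw [h4, MulAut.inv_def]
  exact (MulEquiv.symm_apply_eq _).mpr (h2 k).symm

/-- An automorphism of odd order fixing the involutions of an invariant abelian 2-subgroup fixes
the subgroup. -/
theorem Setup.fixed_of_involutions (S : Setup A) {φ : MulAut X} (hφ : φ ∈ A) (N : Subgroup X)
    (hi : ∀ n ∈ N, φ n ∈ N) (hN : ∀ a ∈ N, ∀ b ∈ N, a * b = b * a)
    (h : ∀ n ∈ N, n * n = 1 → φ n = n) : ∀ n ∈ N, φ n = n := by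
  suffices H : ∀ k : ℕ, ∀ n ∈ N, n ^ 2 ^ k = 1 → φ n = n by
    intro n hn
    obtain ⟨k, hk⟩ := S.pTwo n
    exact H k n hn hk
  intro k
  induction k with
  | zero => intro n _ hk; simp only [pow_zero, pow_one] at hk; simp [hk]
  | succ k ih =>
    intro n hn hk
    have h2 : φ (n * n) = n * n :=
      ih _ (N.mul_mem hn hn) (by rw [← pow_two, ← pow_mul, ← pow_succ']; exact hk)
    have he : n⁻¹ * φ n ∈ N := N.mul_mem (N.inv_mem hn) (hi n hn)
    have he2 : n⁻¹ * φ n * (n⁻¹ * φ n) = 1 := by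
      rw [sq_mul (hN _ (N.inv_mem hn) _ (hi n hn)), ← map_mul, h2]; group
    have hfix := h _ he he2
    have hp := pow_apply_of_mul (φ := φ) (n := n) (e := n⁻¹ * φ n) (by group) hfix (orderOf φ)
    rw [pow_orderOf_eq_one, MulAut.one_apply] at hp
    obtain ⟨j, hj⟩ := S.odd_orderOf hφ
    rw [hj, pow_succ, pow_mul, pow_two, he2, one_pow, one_mul, mul_inv_cancel_left] at hp
    exact hp.symm

theorem exists_two_pow_card (hX : IsPGroup 2 X) (N : Subgroup X) :
    ∃ k : ℕ, Nat.card N = 2 ^ k := IsPGroup.iff_card.mp (hX.to_subgroup N)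

theorem card_eq_four_of_lt (hX : IsPGroup 2 X) {K N : Subgroup X} (hKN : K < N) (hK : K ≠ ⊥)
    (hN : Nat.card N ≤ 4) : Nat.card N = 4 ∧ Nat.card K = 2 := by
  obtain ⟨i, hi⟩ := exists_two_pow_card hX K
  obtain ⟨j, hj⟩ := exists_two_pow_card hX N
  have h1 : Nat.card K < Nat.card N := by
    refine lt_of_le_of_ne (Subgroup.card_le_of_le hKN.le) fun h => hKN.ne ?_
    exact Subgroup.eq_of_le_of_card_ge hKN.le h.ge
  have h2 : 1 < Nat.card K := Subgroup.one_lt_card_iff_ne_bot K |>.mpr hK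
  rw [hi] at h1 h2; rw [hj] at h1 hN
  have hi0 : i ≠ 0 := by rintro rfl; simp at h2
  have hij : i < j := (Nat.pow_lt_pow_iff_right (by norm_num)).mp h1
  have hj2 : j ≤ 2 := (Nat.pow_le_pow_iff_right (a := 2) (by norm_num)).mp
    (show 2 ^ j ≤ 2 ^ 2 by simpa using hN)
  have : i = 1 ∧ j = 2 := by omega
  rw [hi, hj, this.1, this.2]; norm_num

/-- An invariant normal elementary abelian subgroup is central. -/
theorem Setup.elementary_le_center (S : Setup A) (N : Subgroup X) (hn : N.Normal) (hi : Invar A N)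
    (hN : ∀ a ∈ N, ∀ b ∈ N, a * b = b * a) (h2 : ∀ a ∈ N, a * a = 1) :
    N ≤ Subgroup.center X := by
  classical
  haveI := hn
  haveI : Fact (Nat.Prime 2) := ⟨Nat.prime_two⟩
  by_contra hle
  have hNne : N ≠ ⊥ := by rintro rfl; exact hle bot_le
  set K := N ⊓ Subgroup.center X with hK
  have hKne : K ≠ ⊥ := H6.inf_center_ne_bot S.pTwo hNne
  have hKlt : K < N := lt_of_le_of_ne inf_le_left fun h => hle (h ▸ inf_le_right)
  obtain ⟨hN4, hK2⟩ := card_eq_four_of_lt S.pTwo hKlt hKne (S.rank N hn hN h2)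
  obtain ⟨e, heN, heK⟩ := SetLike.exists_of_lt hKlt
  have hidx : (K.subgroupOf N).index = 2 := by
    have h := Subgroup.card_mul_index (K.subgroupOf N)
    rw [Nat.card_congr (Subgroup.subgroupOfEquivOfLe hKlt.le).toEquiv, hK2, hN4] at h
    omega
  have hmem : ∀ n ∈ N, n ∉ K → e⁻¹ * n ∈ K := by
    intro n hn hnK
    have := (Subgroup.mul_mem_iff_of_index_two hidx
      (a := (⟨e⁻¹, N.inv_mem heN⟩ : N)) (b := ⟨n, hn⟩)).mpr (by
        simp only [Subgroup.mem_subgroupOf, inv_mem_iff]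
        exact ⟨fun h => absurd h heK, fun h => absurd h hnK⟩)
    simpa [Subgroup.mem_subgroupOf] using this
  have hconj : ∀ x : X, e⁻¹ * (x * e * x⁻¹) ∈ K := by
    intro x
    refine hmem _ (hn.conj_mem e heN x) fun h => heK ⟨heN, ?_⟩
    show e ∈ Subgroup.center X
    have h' : x * e * x⁻¹ ∈ Subgroup.center X := h.2
    have := (inferInstance : (Subgroup.center X).Normal).conj_mem _ h' x⁻¹
    simpa [mul_assoc] using this
  have hc : ∀ k ∈ K, ∀ g : X, g * k = k * g := fun k hk g => Subgroup.mem_center_iff.mp hk.2 g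
  let f : X →* K :=
    { toFun := fun x => ⟨e⁻¹ * (x * e * x⁻¹), hconj x⟩
      map_one' := Subtype.ext (by simp)
      map_mul' := fun x y => Subtype.ext (by
        show e⁻¹ * (x * y * e * (x * y)⁻¹) = e⁻¹ * (x * e * x⁻¹) * (e⁻¹ * (y * e * y⁻¹))
        obtain ⟨k, hk, hk'⟩ : ∃ k ∈ K, y * e * y⁻¹ = e * k :=
          ⟨_, hconj y, by group⟩
        rw [hk', show x * y * e * (x * y)⁻¹ = x * (y * e * y⁻¹) * x⁻¹ by group, hk',
          show x * (e * k) * x⁻¹ = x * e * (k * x⁻¹) by group, ← hc k hk x⁻¹]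
        group) }
  have hKfix : ∀ φ ∈ A, ∀ k ∈ K, φ k = k := by
    intro φ hφ k hk
    have hi' : φ k ∈ K := ⟨hi φ hφ k hk.1, by
      show φ k ∈ Subgroup.center X
      rw [Subgroup.mem_center_iff]
      intro g
      have h := congrArg φ (hc k hk (φ.symm g))
      rwa [map_mul, map_mul, MulEquiv.apply_symm_apply] at h⟩
    by_cases hk1 : k = 1
    · simp [hk1]
    obtain ⟨z, w, -, hzw⟩ := Nat.card_eq_two_iff.mp hK2
    have hall : ∀ t : K, t = 1 ∨ t = ⟨k, hk⟩ := by
      intro t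
      have h1 : t ∈ ({z, w} : Set K) := hzw ▸ Set.mem_univ t
      have h2 : (1 : K) ∈ ({z, w} : Set K) := hzw ▸ Set.mem_univ _
      have h3 : (⟨k, hk⟩ : K) ∈ ({z, w} : Set K) := hzw ▸ Set.mem_univ _
      have h4 : (1 : K) ≠ ⟨k, hk⟩ := fun h => hk1 (congrArg Subtype.val h).symm
      simp only [Set.mem_insert_iff, Set.mem_singleton_iff] at h1 h2 h3
      rcases h1 with rfl | rfl <;> rcases h2 with h2 | h2 <;> rcases h3 with h3 | h3 <;>
        simp_all
    rcases hall ⟨φ k, hi'⟩ with h | h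
    · exact absurd (φ.injective ((congrArg Subtype.val h).trans (map_one φ).symm)) hk1
    · exact congrArg Subtype.val h
  have hf : ∀ φ ∈ A, ∀ x, f (φ x) = f x := by
    intro φ hφ x
    apply Subtype.ext
    show e⁻¹ * (φ x * e * (φ x)⁻¹) = e⁻¹ * (x * e * x⁻¹)
    have hne : φ e ∉ K := by
      intro h
      apply heK
      refine ⟨heN, ?_⟩
      show e ∈ Subgroup.center X
      rw [Subgroup.mem_center_iff]
      intro g
      apply φ.injective
      rw [map_mul, map_mul]
      exact hc _ h _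
    obtain ⟨k, hk, hk'⟩ : ∃ k ∈ K, φ e = e * k :=
      ⟨_, hmem _ (hi φ hφ e heN) hne, by group⟩
    have h1 : φ (e⁻¹ * (x * e * x⁻¹)) = e⁻¹ * (x * e * x⁻¹) := hKfix φ hφ _ (hconj x)
    rw [← h1, map_mul, map_mul, map_mul, map_inv, map_inv, hk',
      show φ x * (e * k) * (φ x)⁻¹ = φ x * e * (k * (φ x)⁻¹) by group, ← hc k hk (φ x)⁻¹,
      show (e * k)⁻¹ * (φ x * e * ((φ x)⁻¹ * k)) = k⁻¹ * (e⁻¹ * (φ x * e * (φ x)⁻¹) * k) by group]
    rw [hc k hk (e⁻¹ * (φ x * e * (φ x)⁻¹)), inv_mul_cancel_left]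
  apply heK
  refine ⟨heN, Subgroup.mem_center_iff.mpr fun g => ?_⟩
  have h : e⁻¹ * (g * e * g⁻¹) = 1 := congrArg Subtype.val (S.eq_one_of_hom f hf g)
  calc g * e = e * (e⁻¹ * (g * e * g⁻¹)) * g := by group
    _ = e * g := by rw [h]; group

/-- Invariant normal abelian subgroups: the involutions are central. -/
theorem Setup.involution_mem (S : Setup A) (N : Subgroup X) (hn : N.Normal) (hi : Invar A N)
    (hN : ∀ a ∈ N, ∀ b ∈ N, a * b = b * a) {a : X} (ha : a ∈ N) (h2 : a * a = 1) :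
    a ∈ zOne X :=
  ⟨S.elementary_le_center (omegaOf N hN) (omegaOf_normal hn hN) (omegaOf_invar hi hN)
    (fun x hx y hy => hN x hx.1 y hy.1) (fun x hx => hx.2) ⟨ha, h2⟩, h2⟩

theorem Setup.card_zOne_le (S : Setup A) : Nat.card (zOne X) ≤ 4 :=
  S.rank _ zOne_normal (fun _ ha b _ => (zOne_comm ha b).symm) fun _ ha => ha.2

theorem Setup.zOne_ne_bot (S : Setup A) [Nontrivial X] : zOne X ≠ ⊥ := by
  haveI : Fact (Nat.Prime 2) := ⟨Nat.prime_two⟩
  haveI := S.pTwo.center_nontrivial
  have hd : 2 ∣ Nat.card (Subgroup.center X) :=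
    ((S.pTwo.to_subgroup (Subgroup.center X)).card_eq_or_dvd).resolve_left
      Finite.one_lt_card.ne'
  obtain ⟨z, hz⟩ := exists_prime_orderOf_dvd_card' 2 hd
  intro h
  have hz2 : (z : X) ∈ zOne X := ⟨z.2, by
    have h2 := congrArg Subtype.val (hz ▸ pow_orderOf_eq_one z)
    rw [← pow_two]; simpa using h2⟩
  rw [h, Subgroup.mem_bot] at hz2
  have : z = 1 := Subtype.ext hz2
  rw [this, orderOf_one] at hz
  exact absurd hz (by norm_num)

/-- An involution with all commutators central of order 2 lies in the centre when `|Ω₁Z| = 4`. -/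
theorem Setup.mem_zOne_of_commutator (S : Setup A) (h4 : Nat.card (zOne X) = 4) {e : X}
    (he : e * e = 1) (hc : ∀ x : X, x * e * x⁻¹ * e ∈ zOne X) : e ∈ zOne X := by
  classical
  by_contra hne
  let N : Subgroup X :=
    { carrier := {y | y ∈ zOne X ∨ y * e ∈ zOne X}
      one_mem' := Or.inl (one_mem _)
      mul_mem' := fun {a b} ha hb => by
        rcases hb with hb | hb
        · rcases ha with ha | ha
          · exact Or.inl (mul_mem ha hb)
          · right
            rw [mul_assoc, ← zOne_comm hb e, ← mul_assoc]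
            exact mul_mem ha hb
        · rcases ha with ha | ha
          · right
            rw [mul_assoc]
            exact mul_mem ha hb
          · left
            have h := mul_mem ha hb
            rwa [show a * e * (b * e) = a * (e * (b * e)) by group, zOne_comm hb e,
              mul_assoc b e e, he, mul_one] at h
      inv_mem' := fun {a} ha => by
        rcases ha with ha | ha
        · exact Or.inl (inv_mem ha)
        · right
          have h := inv_mem ha
          rw [mul_inv_rev, inv_eq_self he] at h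
          have h2 := zOne_comm h e
          rw [← mul_assoc, he, one_mul] at h2
          have h3 : a⁻¹ * e = e * a⁻¹ := by
            conv_lhs => rw [h2]
            rw [mul_assoc (e * a⁻¹), he, mul_one]
          rw [h3]; exact h }
  have hmemN : ∀ {y}, y ∈ N ↔ y ∈ zOne X ∨ y * e ∈ zOne X := Iff.rfl
  have heN : e ∈ N := hmemN.mpr (Or.inr (by rw [he]; exact one_mem _))
  have hec : ∀ {y}, y ∈ N → y * e = e * y := by
    intro y hy
    rcases hy with hy | hy
    · exact (zOne_comm hy e).symm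
    · have h2 := zOne_comm hy e
      rw [mul_assoc y e e, he, mul_one, ← mul_assoc] at h2
      calc y * e = e * y * e * e := by rw [h2]
        _ = e * y := by rw [mul_assoc (e * y), he, mul_one]
  have hab : ∀ a ∈ N, ∀ b ∈ N, a * b = b * a := by
    intro a ha b hb
    rcases hb with hb | hb
    · exact zOne_comm hb a
    · have h1 := zOne_comm hb a
      calc a * b = a * (b * e) * e := by rw [mul_assoc, mul_assoc b, he, mul_one]
        _ = b * e * a * e := by rw [h1]
        _ = b * (e * (a * e)) := by rw [mul_assoc, mul_assoc]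
        _ = b * a := by rw [hec ha, ← mul_assoc e e a, he, one_mul]
  have hsq : ∀ a ∈ N, a * a = 1 := by
    intro a ha
    have ha' := ha
    rcases ha' with ha' | ha'
    · exact ha'.2
    · have h := ha'.2
      rwa [sq_mul (hec ha), he, mul_one] at h
  have hnorm : N.Normal := by
    constructor
    intro a ha g
    rcases ha with ha | ha
    · exact Or.inl (zOne_normal.conj_mem a ha g)
    · refine Or.inr ?_
      have h := mul_mem (zOne_normal.conj_mem _ ha g) (hc g)
      rwa [show g * (a * e) * g⁻¹ * (g * e * g⁻¹ * e) = g * (a * (e * e)) * g⁻¹ * e by group,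
        he, mul_one] at h
  have hlt : zOne X < N := lt_of_le_of_ne (fun y hy => hmemN.mpr (Or.inl hy))
    fun h => hne (h ▸ heN)
  obtain ⟨-, h2⟩ := card_eq_four_of_lt S.pTwo hlt (fun h => by
    rw [h, Subgroup.card_bot] at h4; norm_num at h4) (S.rank N hnorm hab hsq)
  omega

end H2.ScnEmpty
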