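import Cfsg.Agent.H2.ScnEmpty.Quad

/-!
The orders of the groups in `H2.ScnEmpty.Final`.
-/

set_option autoImplicit false
set_option linter.unusedSectionVars false

namespace H2.ScnEmpty

open scoped commutatorElement

variable {X : Type*} [Group X] [Finite X] {A : Subgroup (MulAut X)}

/-- The quadratic character attached to `w`. -/
noncomputable def qf (w x : X) : ℤ := chi w (x * x)

/-- Its polarisation. -/
noncomputable def pol (w x u : X) : ℤ := chi w ⁅u, x⁆

/-- A hypothesis: `chi w` is multiplicative on `Ω₁Z`. -/
def IsChar (w : X) : Prop := ∀ z ∈ zOne X, ∀ z' ∈ zOne X, chi w (z * z') = chi w z * chi w z'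

theorem Final.qf_mul (F : Final X) {w : X} (hw : IsChar w) (x u : X) :
    qf w (x * u) = qf w x * qf w u * pol w x u := by
  rw [qf, F.sq_mul', hw _ (mul_mem (F.sq x) (F.sq u)) _ (F.comm u x), hw _ (F.sq x) _ (F.sq u)]
  rfl

theorem Final.pol_mul_left (F : Final X) {w : X} (hw : IsChar w) (x x' u : X) :
    pol w (x * x') u = pol w x u * pol w x' u := by
  rw [pol, comm_mul_right F.commC, hw _ (F.comm u x) _ (F.comm u x')]; rfl

theorem Final.pol_mul_right (F : Final X) {w : X} (hw : IsChar w) (x u u' : X) :
    pol w x (u * u') = pol w x u * pol w x u' := by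
  rw [pol, comm_mul_left F.commC, hw _ (F.comm u x) _ (F.comm u' x)]; rfl

/-- The radical. -/
noncomputable def radical (F : Final X) (w : X) (hw : IsChar w) : Subgroup X where
  carrier := {u | ∀ x, pol w x u = 1}
  one_mem' := fun x => by rw [pol, commutatorElement_one_left, chi_one]
  mul_mem' := fun {a b} ha hb x => by rw [F.pol_mul_right hw, ha x, hb x, one_mul]
  inv_mem' := fun {a} ha x => by
    have h := F.pol_mul_right hw x a a⁻¹
    rw [mul_inv_cancel, ha x, one_mul, pol, commutatorElement_one_left, chi_one] at h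
    exact h.symm

theorem mem_radical {F : Final X} {w : X} {hw : IsChar w} {u : X} :
    u ∈ radical F w hw ↔ ∀ x, pol w x u = 1 := Iff.rfl

theorem zOne_le_radical (F : Final X) (w : X) (hw : IsChar w) : zOne X ≤ radical F w hw := by
  intro z hz x
  rw [pol, commutatorElement_eq_one_iff_mul_comm.mpr (zOne_comm hz x).symm, chi_one]

theorem sum_sign {H : Type*} [Group H] [Fintype H] (g : H → ℤ) (hg : ∀ h, g h = 1 ∨ g h = -1)
    (hm : ∀ a b, g (a * b) = g a * g b) :
    ∑ h, g h = 0 ∨ ∑ h, g h = (Fintype.card H : ℤ) := by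
  by_cases hall : ∀ h, g h = 1
  · right; simp [Finset.sum_congr rfl (fun h _ => hall h)]
  · left
    push Not at hall
    obtain ⟨h0, hh0⟩ := hall
    have h1 : ∑ h, g (h * h0) = ∑ h, g h :=
      Fintype.sum_equiv (Equiv.mulRight h0) _ _ (fun h => rfl)
    rw [Finset.sum_congr rfl (fun h _ => hm h h0), ← Finset.sum_mul,
      (hg h0).resolve_left hh0] at h1
    linarith

theorem Final.gauss_radical (F : Final X) [Fintype X] (w : X) (hw : IsChar w) :
    (∑ x : X, qf w x) ^ 2 = 0 ∨
      (∑ x : X, qf w x) ^ 2 = (Nat.card X : ℤ) * (Nat.card (radical F w hw) : ℤ) := by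
  classical
  have h := gauss (qf w) (pol w) (fun x => chi_cases w _) (F.qf_mul hw)
    (fun v v' u => F.pol_mul_left hw v v' u)
  have e : ∑ u, (if ∀ v, pol w v u = 1 then qf w u else 0) =
      ∑ u : radical F w hw, qf w (u : X) := by
    rw [← Finset.sum_filter]
    exact (Finset.sum_subtype _ (fun u => by simp [mem_radical]) _)
  rw [e] at h
  rcases sum_sign (fun u : radical F w hw => qf w (u : X)) (fun u => chi_cases w _)
    (fun a b => by
      show qf w ((a : X) * b) = _
      rw [F.qf_mul hw, b.2 a, mul_one]) with h' | h'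
  · left; rw [h, h', mul_zero]
  · right; rw [h, h', ← Nat.card_eq_fintype_card, ← Nat.card_eq_fintype_card]

theorem Final.gauss_min (F : Final X) [Fintype X] (w : X) (hw : IsChar w)
    (hr : radical F w hw = zOne X) :
    (∑ x : X, qf w x) ^ 2 = (Nat.card X : ℤ) * (Nat.card (zOne X) : ℤ) := by
  classical
  rw [gauss (qf w) (pol w) (fun x => chi_cases w _) (F.qf_mul hw)
    (fun v v' u => F.pol_mul_left hw v v' u), ← Nat.card_eq_fintype_card]
  congr 1
  rw [← Finset.sum_filter, Finset.sum_congr (s₂ := Finset.univ.filter fun u : X => u ∈ zOne X)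
    (g := fun _ => (1 : ℤ))]
  · rw [Finset.sum_const, nsmul_eq_mul, mul_one, Nat.card_eq_fintype_card, Fintype.card_subtype]
  · ext u
    simp only [Finset.mem_filter, Finset.mem_univ, true_and]
    rw [← hr]; exact Iff.rfl
  · intro u hu
    simp only [Finset.mem_filter, Finset.mem_univ, true_and] at hu
    rw [qf, hu.2, chi_one]

theorem radical_index_ne_two (F : Final X) (w : X) (hw : IsChar w) :
    (radical F w hw).index ≠ 2 := by
  intro hidx
  set H := radical F w hw
  obtain ⟨v, -, hv⟩ := SetLike.exists_of_lt (lt_of_le_of_ne (le_top : H ≤ ⊤) (fun h => by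
    rw [h, Subgroup.index_top] at hidx; norm_num at hidx))
  apply hv
  intro y
  by_cases hy : y ∈ H
  · have h := hy v
    rw [pol, ← commutatorElement_inv, inv_eq_self (F.comm v y).2] at h
    exact h
  · have hvy : v⁻¹ * y ∈ H := (Subgroup.mul_mem_iff_of_index_two hidx).mpr (by
      simp only [inv_mem_iff]
      exact ⟨fun h => absurd h hv, fun h => absurd h hy⟩)
    have h := hvy v
    rw [pol, ← commutatorElement_inv, inv_eq_self (F.comm v _).2] at h
    have h2 := F.pol_mul_left hw v (v⁻¹ * y) v
    rw [mul_inv_cancel_left] at h2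
    rw [h2, show pol w v v = 1 by rw [pol, commutatorElement_self, chi_one], one_mul]
    exact h

theorem count_four [Fintype X] [DecidableEq X] (F : Final X) {a b : X} (h4 : Nat.card (zOne X) = 4)
    (ha : a ∈ zOne X) (hb : b ∈ zOne X) (ha1 : a ≠ 1) (hb1 : b ≠ 1) (hab : a ≠ b) :
    (4 : ℤ) * (Finset.univ.filter fun x : X => x * x = 1).card =
      Nat.card X + ∑ x : X, qf a x + ∑ x : X, qf b x + ∑ x : X, qf (a * b) x := by
  have key : ∀ x : X, (if x * x = 1 then (4 : ℤ) else 0) =
      1 + qf a x + qf b x + qf (a * b) x := by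
    intro x
    have h12 : a * b ≠ 1 := fun h => hab ((eq_inv_of_mul_eq_one_left h).trans (inv_eq_self hb.2))
    have h13 : a * b ≠ a := fun h => hb1 (mul_eq_left.mp h)
    have h14 : a * b ≠ b := fun h => ha1 (mul_eq_right.mp h)
    rcases four_elements h4 ha hb (F.sq x) ha1 hb1 hab with h | h | h | h <;> simp only [qf, h]
    · rw [if_pos trivial, chi_one, chi_one, chi_one]; norm_num
    · rw [if_neg ha1, chi_self, chi_of_ne ha1 hab, chi_of_ne ha1 h13.symm]; norm_num
    · rw [if_neg hb1, chi_self, chi_of_ne hb1 hab.symm, chi_of_ne hb1 h14.symm]; norm_num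
    · rw [if_neg h12, chi_self, chi_of_ne h12 h13, chi_of_ne h12 h14]; norm_num
  have h := Finset.sum_congr rfl (fun x (_ : x ∈ Finset.univ) => key x)
  rw [Finset.sum_add_distrib, Finset.sum_add_distrib, Finset.sum_add_distrib] at h
  rw [Nat.card_eq_fintype_card]
  simp only [← Finset.sum_filter, Finset.sum_const, Finset.card_univ, nsmul_eq_mul, mul_one] at h
  rw [← h, mul_comm]

theorem Setup.involutions_central (S : Setup A) (F : Final X) (h4 : Nat.card (zOne X) = 4) {e : X}
    (he : e * e = 1) : e ∈ zOne X :=
  S.mem_zOne_of_commutator h4 he fun x => by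
    have h := F.comm x e
    rwa [commutatorElement_def, inv_eq_self he] at h

theorem Setup.card_four (S : Setup A) (F : Final X) (h4 : Nat.card (zOne X) = 4) :
    Nat.card X = 64 := by
  classical
  haveI : Fintype X := Fintype.ofFinite X
  have hne : zOne X ≠ ⊥ := fun h => by rw [h, Subgroup.card_bot] at h4; norm_num at h4
  obtain ⟨⟨a, ha⟩, ha'⟩ := Subgroup.ne_bot_iff_exists_ne_one.mp hne
  have ha1 : a ≠ 1 := fun h => ha' (Subtype.ext h)
  have hchar : ∀ w ∈ zOne X, w ≠ 1 → IsChar w := fun w hw hw1 z hz z' hz' =>
    chi_mul_of_four h4 hw hw1 hz hz'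
  have hinv : (Finset.univ.filter fun x : X => x * x = 1).card = 4 := by
    rw [← h4, Nat.card_eq_fintype_card, Fintype.card_subtype]
    congr 1
    ext x
    simp only [Finset.mem_filter, Finset.mem_univ, true_and]
    exact ⟨fun h => S.involutions_central F h4 h, fun h => h.2⟩
  have hrad4 : ∀ w (hw : IsChar w), 4 ≤ Nat.card (radical F w hw) := fun w hw =>
    h4 ▸ Subgroup.card_le_of_le (zOne_le_radical F w hw)
  have hidx : ∀ w (hw : w ∈ zOne X) (hw1 : w ≠ 1),
      4 * Nat.card (radical F w (hchar w hw hw1)) ≤ Nat.card X := by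
    intro w hw hw1
    set H := radical F w (hchar w hw hw1) with hH
    have h1 : H.index ≠ 1 := by
      intro h
      rw [Subgroup.index_eq_one] at h
      have hle : commutator X ≤ Subgroup.zpowers w := by
        rw [commutator_def, Subgroup.commutator_le]
        intro x _ y _
        have hx : x ∈ H := h ▸ Subgroup.mem_top x
        rcases eq_of_chi (hx y) with h' | h'
        · rw [h']; exact one_mem _
        · rw [h']; exact Subgroup.mem_zpowers w
      have h5 := Subgroup.card_le_of_le (F.le_commutator.trans hle)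
      rw [h4, Nat.card_zpowers, orderOf_eq_prime (by rw [pow_two]; exact hw.2) hw1] at h5
      omega
    have h2 : H.index ≠ 2 := radical_index_ne_two F w (hchar w hw hw1)
    have h3 : H.index ≠ 0 := Subgroup.index_ne_zero_of_finite
    have h5 : H.index ≠ 3 := by
      intro h
      obtain ⟨n, hn⟩ := IsPGroup.iff_card.mp S.pTwo
      have h6 : 3 ∣ 2 ^ n := hn ▸ h ▸ H.index_dvd_card
      exact absurd (Nat.Prime.dvd_of_dvd_pow Nat.prime_three h6) (by norm_num)
    calc 4 * Nat.card H ≤ H.index * Nat.card H := Nat.mul_le_mul_right _ (by omega)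
      _ = Nat.card X := H.index_mul_card
  obtain ⟨n, hn⟩ := IsPGroup.iff_card.mp S.pTwo
  have hcount : ∀ b ∈ zOne X, b ≠ 1 → a ≠ b → (16 : ℤ) =
      2 ^ n + ∑ x : X, qf a x + ∑ x : X, qf b x + ∑ x : X, qf (a * b) x := by
    intro b hb hb1 hab
    have h := count_four F h4 ha hb ha1 hb1 hab
    rw [hinv, hn] at h
    push_cast at h
    linarith
  have hgauss : ∀ w, w ∈ zOne X → w ≠ 1 → ∃ j, 2 ≤ j ∧ j + 2 ≤ n ∧
      ((∑ x : X, qf w x) ^ 2 = 0 ∨ (∑ x : X, qf w x) ^ 2 = 2 ^ (n + j)) := by
    intro w hw hw1
    obtain ⟨j, hj⟩ := exists_two_pow_card S.pTwo (radical F w (hchar w hw hw1))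
    refine ⟨j, ?_, ?_, ?_⟩
    · have h := hrad4 w (hchar w hw hw1)
      rw [hj] at h
      exact (Nat.pow_le_pow_iff_right (a := 2) (by norm_num)).mp (show 2 ^ 2 ≤ 2 ^ j by simpa using h)
    · have h := hidx w hw hw1
      rw [hj, hn, show 4 * 2 ^ j = 2 ^ (j + 2) by ring] at h
      exact (Nat.pow_le_pow_iff_right (a := 2) (by norm_num)).mp h
    · rcases F.gauss_radical w (hchar w hw hw1) with h | h
      · exact Or.inl h
      · right
        rw [h, hn, hj]
        push_cast
        ring
  obtain ⟨ja, hja2, hja, hTa⟩ := hgauss a ha ha1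
  obtain ⟨b, hb, hb1, hab⟩ : ∃ b ∈ zOne X, b ≠ 1 ∧ a ≠ b := by
    by_contra hno
    push Not at hno
    have hle : zOne X ≤ Subgroup.zpowers a := by
      intro t ht
      by_cases ht1 : t = 1
      · rw [ht1]; exact one_mem _
      · rw [← hno t ht ht1]; exact Subgroup.mem_zpowers a
    have h5 := Subgroup.card_le_of_le hle
    rw [h4, Nat.card_zpowers, orderOf_eq_prime (by rw [pow_two]; exact ha.2) ha1] at h5
    omega
  have hc1 : a * b ≠ 1 := fun h => hab ((eq_inv_of_mul_eq_one_left h).trans (inv_eq_self hb.2))
  obtain ⟨jb, hjb2, hjb, hTb⟩ := hgauss b hb hb1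
  obtain ⟨jc, hjc2, hjc, hTc⟩ := hgauss (a * b) (mul_mem ha hb) hc1
  have hsum := hcount b hb hb1 hab
  generalize hA : ∑ x : X, qf a x = Ta at hTa hsum
  generalize hB : ∑ x : X, qf b x = Tb at hTb hsum
  generalize hC : ∑ x : X, qf (a * b) x = Tc at hTc hsum
  rw [hn]
  by_contra hne
  have hn6 : n ≠ 6 := by rintro rfl; exact hne (by norm_num)
  rcases Nat.lt_or_ge n 7 with hlt | hge
  · -- `n = 4` or `n = 5`
    have h45 : n = 4 ∨ n = 5 := by omega
    rcases h45 with rfl | rfl
    · obtain rfl : ja = 2 := by omega
      obtain rfl : jb = 2 := by omega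
      obtain rfl : jc = 2 := by omega
      have hv : ∀ T : ℤ, (T ^ 2 = 0 ∨ T ^ 2 = 2 ^ (4 + 2)) → T = 0 ∨ T = 8 ∨ T = -8 := by
        rintro T (h | h)
        · exact Or.inl (pow_eq_zero_iff two_ne_zero |>.mp h)
        · have h' : (T - 8) * (T + 8) = 0 := by linear_combination h
          rcases mul_eq_zero.mp h' with h'' | h''
          · exact Or.inr (Or.inl (by linarith))
          · exact Or.inr (Or.inr (by linarith))
      -- every radical is `Ω₁Z`, on which the form is trivial
      have hne0 : ∀ w (hw : w ∈ zOne X) (hw1 : w ≠ 1), (∑ x : X, qf w x) ≠ 0 := by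
        intro w hw hw1 h0
        have hr : radical F w (hchar w hw hw1) = zOne X :=
          (Subgroup.eq_of_le_of_card_ge (zOne_le_radical F w _) (by
            have h := hidx w hw hw1
            rw [hn] at h; omega)).symm
        have h := F.gauss_min w (hchar w hw hw1) hr
        rw [h0, hn, h4] at h
        norm_num at h
      have na := hne0 a ha ha1
      have nb := hne0 b hb hb1
      have nc := hne0 _ (mul_mem ha hb) hc1
      rw [hA] at na; rw [hB] at nb; rw [hC] at nc
      rcases hv Ta hTa with rfl | rfl | rfl <;> rcases hv Tb hTb with rfl | rfl | rfl <;>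
        rcases hv Tc hTc with rfl | rfl | rfl <;> first
          | exact na rfl | exact nb rfl | exact nc rfl | norm_num at hsum
    · by_cases hfix : ∀ φ ∈ A, ∀ z ∈ zOne X, φ z = z
      · -- some radical has order 8 and is fixed modulo `Ω₁Z`
        have hsmall : ∀ w (hw : w ∈ zOne X) (hw1 : w ≠ 1),
            Nat.card (radical F w (hchar w hw hw1)) ≠ 8 := by
          intro w hw hw1 h8
          set H := radical F w (hchar w hw hw1)
          have hlt' : zOne X < H := lt_of_le_of_ne (zOne_le_radical F w _) fun h => by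
            rw [← h, h4] at h8; norm_num at h8
          obtain ⟨r, hrH, hr⟩ := SetLike.exists_of_lt hlt'
          refine hr (S.mem_of_fixed_mod F fun φ hφ => ?_)
          have hH : φ r ∈ H := by
            intro x
            have h1 := hrH (φ.symm x)
            rw [pol] at h1 ⊢
            rw [← chi_map φ w, map_commutatorElement, MulEquiv.apply_symm_apply, hfix φ hφ w hw]
              at h1
            exact h1
          have hZ : φ r ∉ zOne X := fun h => hr (by
            simpa using zOne_invar A φ⁻¹ (A.inv_mem hφ) _ h)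
          have hidx2 : ((zOne X).subgroupOf H).index = 2 := by
            have h := Subgroup.card_mul_index ((zOne X).subgroupOf H)
            rw [Nat.card_congr (Subgroup.subgroupOfEquivOfLe hlt'.le).toEquiv, h4, h8] at h
            omega
          have := (Subgroup.mul_mem_iff_of_index_two hidx2 (a := (⟨r⁻¹, H.inv_mem hrH⟩ : H))
            (b := ⟨φ r, hH⟩)).mpr (by
              simp only [Subgroup.mem_subgroupOf, inv_mem_iff]
              exact ⟨fun h => absurd h hr, fun h => absurd h hZ⟩)
          simpa [Subgroup.mem_subgroupOf] using this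
        obtain ⟨j, hj⟩ := exists_two_pow_card S.pTwo (radical F a (hchar a ha ha1))
        have hj4 := hrad4 a (hchar a ha ha1)
        have hj8 := hidx a ha ha1
        rw [hn, hj] at hj8
        rw [hj] at hj4
        have hj2 : j = 2 := by
          have h1 : 2 ≤ j := (Nat.pow_le_pow_iff_right (a := 2) (by norm_num)).mp
            (show 2 ^ 2 ≤ 2 ^ j by simpa using hj4)
          have h2 : j ≤ 3 := (Nat.pow_le_pow_iff_right (a := 2) (by norm_num)).mp
            (show 2 ^ j ≤ 2 ^ 3 by norm_num at hj8 ⊢; omega)
          have h3 : j ≠ 3 := fun h => hsmall a ha ha1 (by rw [hj, h]; norm_num)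
          omega
        subst hj2
        -- then the square of the sum would be `128`
        have hr : radical F a (hchar a ha ha1) = zOne X :=
          (Subgroup.eq_of_le_of_card_ge (zOne_le_radical F a _) (by rw [hj, h4]; norm_num)).symm
        have h := F.gauss_min a (hchar a ha ha1) hr
        rw [hA, hn, h4] at h
        norm_num at h
        have hle : Ta ≤ 11 := by nlinarith [sq_nonneg (Ta - 12)]
        have hge : -11 ≤ Ta := by nlinarith [sq_nonneg (Ta + 12)]
        interval_cases Ta <;> norm_num at h
      · -- `φ` permutes the three characters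
        push Not at hfix
        obtain ⟨φ, hφ, z, hz, hne'⟩ := hfix
        have hz1 : z ≠ 1 := by rintro rfl; simp at hne'
        have hφa : φ a ≠ a := fun h => hne' (S.fix_all h4 hφ ha ha1 h z hz)
        have hφ1 : φ a ≠ 1 := fun h => ha1 (φ.injective (h.trans (map_one φ).symm))
        have hφa2 : φ (φ a) = a * φ a := by
          have hm := zOne_invar A φ hφ a ha
          rcases four_elements h4 ha hm (zOne_invar A φ hφ _ hm) ha1 hφ1 hφa.symm with
            h | h | h | h
          · exact absurd (φ.injective (h.trans (map_one φ).symm)) hφ1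
          · exact absurd (eq_self_of_sq (S.odd_orderOf hφ) (by
              rw [pow_two, MulAut.mul_apply, h])) hφa
          · exact absurd (φ.injective h) hφa
          · exact h
        have hinvar : ∀ w : X, ∑ x : X, qf (φ w) x = ∑ x : X, qf w x := fun w => by
          refine (Fintype.sum_equiv φ.toEquiv _ _ fun x => ?_).symm
          show qf w x = qf (φ w) (φ x)
          rw [qf, qf, ← map_mul, chi_map]
        have h := hcount (φ a) (zOne_invar A φ hφ a ha) hφ1 hφa.symm
        rw [← hφa2] at h
        simp only [hinvar, hA] at h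
        omega
  · have h512 : ∀ (T : ℤ) (j : ℕ), 2 ≤ j → (T ^ 2 = 0 ∨ T ^ 2 = 2 ^ (n + j)) → 32 ∣ T := by
      rintro T j hj (h | h) <;> refine thirty_two_dvd ?_ <;> rw [← pow_two, h]
      · exact dvd_zero _
      · exact dvd_trans (by norm_num : (512 : ℤ) ∣ 2 ^ 9) (pow_dvd_pow 2 (by omega))
    have hn32 : (32 : ℤ) ∣ 2 ^ n := dvd_trans (by norm_num : (32 : ℤ) ∣ 2 ^ 5) (pow_dvd_pow 2 (by omega))
    have h := dvd_add (dvd_add (dvd_add hn32 (h512 Ta ja hja2 hTa)) (h512 Tb jb hjb2 hTb))
      (h512 Tc jc hjc2 hTc)
    rw [← hsum] at h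
    norm_num at h

theorem mod_fixed_of_sq {φ : MulAut X} (hodd : Odd (orderOf φ)) (h2 : Nat.card (zOne X) = 2)
    {u : X} (h : u⁻¹ * (φ ^ 2) u ∈ zOne X) : u⁻¹ * φ u ∈ zOne X := by
  have hfix : ∀ (ψ : MulAut X), ∀ z ∈ zOne X, ψ z = z := by
    intro ψ z hz
    by_cases hz1 : z = 1
    · simp [hz1]
    rcases two_elements h2 hz (zOne_invar ⊤ ψ trivial z hz) hz1 with h' | h'
    · exact absurd (ψ.injective (h'.trans (map_one ψ).symm)) hz1
    · exact h'
  have hall : ∀ i : ℕ, u⁻¹ * ((φ ^ 2) ^ i) u ∈ zOne X := by
    intro i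
    induction i with
    | zero => simp
    | succ i ih =>
      have h' : (φ ^ 2) (u⁻¹ * ((φ ^ 2) ^ i) u) = u⁻¹ * ((φ ^ 2) ^ i) u := hfix _ _ ih
      rw [map_mul, map_inv] at h'
      have := mul_mem h ih
      rw [← h', ← mul_assoc, mul_inv_cancel_right] at this
      rwa [pow_succ', MulAut.mul_apply]
  obtain ⟨k, hk⟩ := hodd
  have h1 : (φ ^ 2) ^ (k + 1) = φ := by
    rw [← pow_mul, show 2 * (k + 1) = 2 * k + 1 + 1 by ring, pow_succ, ← hk, pow_orderOf_eq_one,
      one_mul]
  have := hall (k + 1)
  rwa [h1] at this

/-- The conclusion when `|Ω₁Z| = 2`. -/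
theorem Setup.card_two (S : Setup A) (F : Final X) (h2 : Nat.card (zOne X) = 2) :
    Nonempty (X ≃* QuaternionGroup 2) ∨
      (Nat.card X = 32 ∧ Nat.card {x : X // orderOf x = 2} = 11) := by
  classical
  haveI : Fintype X := Fintype.ofFinite X
  have hne : zOne X ≠ ⊥ := fun h => by rw [h, Subgroup.card_bot] at h2; norm_num at h2
  obtain ⟨⟨z, hz⟩, hz'⟩ := Subgroup.ne_bot_iff_exists_ne_one.mp hne
  have hz1 : z ≠ 1 := fun h => hz' (Subtype.ext h)
  have hch : IsChar (1 : X) := fun a ha b hb => chi_mul_of_two h2 ha hb
  have hchi : ∀ {t : X}, chi (1 : X) t = 1 ↔ t = 1 := fun {t} =>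
    ⟨fun h => (eq_of_chi h).elim id id, fun h => by rw [h, chi_one]⟩
  have hrad : radical F 1 hch = zOne X := by
    refine le_antisymm (fun u hu => F.center_le (Subgroup.mem_center_iff.mpr fun g => ?_))
      (zOne_le_radical F 1 hch)
    exact (commutatorElement_eq_one_iff_mul_comm.mp (hchi.mp (hu g))).symm
  set M := Nat.card X with hM
  set T := ∑ x : X, qf 1 x with hTdef
  have hT : T ^ 2 = 2 * (M : ℤ) := by
    rw [hTdef, F.gauss_min 1 hch hrad, h2, hM]
    push_cast
    ring
  set I := Finset.univ.filter fun x : X => x * x = 1 with hI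
  have hTI : (M : ℤ) + T = 2 * I.card := by
    have key : ∀ x : X, 1 + qf 1 x = if x * x = 1 then (2 : ℤ) else 0 := fun x => by
      rw [qf]
      by_cases h : x * x = 1
      · rw [if_pos h, h, chi_one]; norm_num
      · rw [if_neg h, chi_of_ne h h]; norm_num
    have h := Finset.sum_congr rfl (fun x (_ : x ∈ Finset.univ) => key x)
    rw [Finset.sum_add_distrib, ← Finset.sum_filter] at h
    simp only [Finset.sum_const, Finset.card_univ, nsmul_eq_mul, mul_one] at h
    rw [hM, Nat.card_eq_fintype_card, hTdef, hI]
    linarith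
  by_cases hsing : ∃ u : X, u * u = 1 ∧ u ∉ zOne X
  · obtain ⟨u, hu2, hu⟩ := hsing
    have huz : u * z ∉ zOne X := fun h => hu (by
      have := mul_mem h hz
      rwa [mul_assoc, hz.2, mul_one] at this)
    have hu1 : u ≠ 1 := fun h => hu (h ▸ one_mem _)
    -- involutions commuting with `u`
    have hQ : ∀ x : X, x * x = 1 → x * u = u * x → x = 1 ∨ x = z ∨ x = u ∨ x = u * z := by
      intro x hx hxu
      by_contra hcon
      push Not at hcon
      obtain ⟨hx1, hxz, hxu', hxuz⟩ := hcon
      set T' : Set X := {t | t ∈ zOne X ∨ t = x ∨ t = u} with hT'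
      have hcomm : ∀ a ∈ T', ∀ b ∈ T', a * b = b * a := by
        rintro a (ha | rfl | rfl) b (hb | rfl | rfl)
        all_goals first
          | exact (zOne_comm ha _).symm
          | exact zOne_comm hb _
          | rfl
          | exact hxu
          | exact hxu.symm
      set N := Subgroup.closure T' with hN
      have hZN : zOne X ≤ N := fun t ht => Subgroup.subset_closure (Or.inl ht)
      have hab : ∀ a ∈ N, ∀ b ∈ N, a * b = b * a := by
        have h1 : N ≤ Subgroup.centralizer (N : Set X) := by
          rw [hN, Subgroup.centralizer_closure, Subgroup.closure_le]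
          intro a ha
          rw [SetLike.mem_coe, Subgroup.mem_centralizer_iff]
          exact fun b hb => hcomm b hb a ha
        intro a ha b hb
        exact (Subgroup.mem_centralizer_iff.mp (h1 ha) b hb).symm
      have hexp : ∀ a ∈ N, a * a = 1 := by
        intro a ha
        have : a ∈ omegaOf N hab := by
          have hle : N ≤ omegaOf N hab := by
            refine (Subgroup.closure_le (omegaOf N hab)).mpr ?_
            intro t ht
            refine ⟨Subgroup.subset_closure ht, ?_⟩
            rcases ht with ht | rfl | rfl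
            · exact ht.2
            · exact hx
            · exact hu2
          exact hle ha
        exact this.2
      have hn : N.Normal := by
        constructor
        intro a ha g
        rw [show g * a * g⁻¹ = ⁅g, a⁆ * a by simp only [commutatorElement_def]; group]
        exact mul_mem (hZN (F.comm g a)) ha
      have hcard := S.rank N hn hab hexp
      have hsub : ({1, z, u, u * z, x} : Set X) ⊆ (N : Set X) := by
        intro t ht
        simp only [Set.mem_insert_iff, Set.mem_singleton_iff] at ht
        rcases ht with rfl | rfl | rfl | rfl | rfl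
        · exact one_mem _
        · exact hZN hz
        · exact Subgroup.subset_closure (Or.inr (Or.inr rfl))
        · exact mul_mem (Subgroup.subset_closure (Or.inr (Or.inr rfl))) (hZN hz)
        · exact Subgroup.subset_closure (Or.inr (Or.inl rfl))
      have h5 := Set.ncard_le_ncard hsub
      have hzu : z ≠ u := fun h => hu (h ▸ hz)
      have hzuz : z ≠ u * z := fun h => hu1 (right_eq_mul.mp h)
      have huuz : u ≠ u * z := fun h => hz1 (left_eq_mul.mp h)
      have h1uz : (1 : X) ≠ u * z := fun h => huz (h ▸ one_mem _)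
      rw [Set.ncard_insert_of_notMem (by simp [hz1.symm, hu1.symm, h1uz, hx1.symm]),
        Set.ncard_insert_of_notMem (by simp [hzu, hzuz, hxz.symm]),
        Set.ncard_insert_of_notMem (by simp [huuz, hxu'.symm]),
        Set.ncard_insert_of_notMem (by simp [hxuz.symm]), Set.ncard_singleton,
        ← Nat.card_coe_set_eq] at h5
      have h5' : 5 ≤ Nat.card N := by simpa using h5
      omega
    have hQcard : (Finset.univ.filter fun x : X => x * x = 1 ∧ x * u = u * x).card = 4 := by
      have he : (Finset.univ.filter fun x : X => x * x = 1 ∧ x * u = u * x) =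
          ({1, z, u, u * z} : Finset X) := by
        ext x
        simp only [Finset.mem_filter, Finset.mem_univ, true_and, Finset.mem_insert,
          Finset.mem_singleton]
        constructor
        · exact fun h => hQ x h.1 h.2
        · rintro (rfl | rfl | rfl | rfl)
          · exact ⟨one_mul 1, by rw [one_mul, mul_one]⟩
          · exact ⟨hz.2, (zOne_comm hz u).symm⟩
          · exact ⟨hu2, rfl⟩
          · refine ⟨by rw [sq_mul (zOne_comm hz u), hu2, hz.2, one_mul], ?_⟩
            rw [mul_assoc, ← zOne_comm hz u]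
      have hzu : z ≠ u := fun h => hu (h ▸ hz)
      have hzuz : z ≠ u * z := fun h => hu1 (right_eq_mul.mp h)
      have huuz : u ≠ u * z := fun h => hz1 (left_eq_mul.mp h)
      have h1uz : (1 : X) ≠ u * z := fun h => huz (h ▸ one_mem _)
      rw [he, Finset.card_insert_of_notMem (by simp [hz1.symm, hu1.symm, h1uz]),
        Finset.card_insert_of_notMem (by simp [hzu, hzuz]),
        Finset.card_insert_of_notMem (by simp [huuz]), Finset.card_singleton]
    have h2T : (M : ℤ) + 2 * T = 16 := by
      have key : ∀ x : X, (1 + qf 1 x) * (1 + pol 1 x u) =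
          if x * x = 1 ∧ x * u = u * x then (4 : ℤ) else 0 := by
        intro x
        rw [qf, pol]
        by_cases h1 : x * x = 1
        · by_cases h3 : x * u = u * x
          · rw [if_pos ⟨h1, h3⟩, h1, chi_one,
              commutatorElement_eq_one_iff_mul_comm.mpr h3.symm, chi_one]; norm_num
          · rw [if_neg (fun h => h3 h.2)]
            have : ⁅u, x⁆ ≠ 1 := fun h => h3 (commutatorElement_eq_one_iff_mul_comm.mp h).symm
            rw [chi_of_ne this this]; norm_num
        · rw [if_neg (fun h => h1 h.1), chi_of_ne h1 h1]; norm_num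
      have h := Finset.sum_congr rfl (fun x (_ : x ∈ Finset.univ) => key x)
      rw [← Finset.sum_filter, Finset.sum_const, hQcard] at h
      simp only [mul_add, add_mul, one_mul, mul_one, Finset.sum_add_distrib] at h
      have hp0 : ∑ x : X, pol 1 x u = 0 := by
        rcases sum_sign (fun x => pol 1 x u) (fun x => chi_cases 1 _)
          (fun x y => F.pol_mul_left hch x y u) with h' | h'
        · exact h'
        · exfalso
          apply hu
          rw [← hrad]
          intro y
          by_contra hy
          have hlt : ∑ x : X, pol 1 x u < ∑ _x : X, (1 : ℤ) :=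
            Finset.sum_lt_sum (fun x _ => by rcases chi_cases (1 : X) ⁅u, x⁆ with e | e <;>
              rw [pol, e] <;> norm_num)
              ⟨y, Finset.mem_univ _, by
                rcases chi_cases (1 : X) ⁅u, y⁆ with e | e
                · exact absurd e hy
                · rw [pol, e]; norm_num⟩
          rw [h', Finset.sum_const, Finset.card_univ, nsmul_eq_mul, mul_one] at hlt
          exact lt_irrefl _ hlt
      have hp1 : ∑ x : X, qf 1 x * pol 1 x u = T := by
        rw [hTdef]
        refine Fintype.sum_equiv (Equiv.mulRight u) _ _ fun x => ?_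
        show qf 1 x * pol 1 x u = qf 1 (x * u)
        rw [F.qf_mul hch, show qf 1 u = 1 by rw [qf, hu2, chi_one], mul_one]
      rw [hp0, hp1, ← hTdef, Finset.sum_const, Finset.card_univ, ← Nat.card_eq_fintype_card,
        ← hM] at h
      simp only [nsmul_eq_mul, mul_one, Nat.cast_ofNat] at h
      linarith
    have hsol : ((M : ℤ) - 8) * ((M : ℤ) - 32) = 0 := by
      linear_combination 4 * hT + ((M : ℤ) - 2 * T - 16) * h2T
    rcases mul_eq_zero.mp hsol with h8 | h32
    · -- order 8 with a noncentral involution: impossible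
      exfalso
      have hI6 : I.card = 6 := by omega
      obtain ⟨φ, hφ, hφu⟩ : ∃ φ ∈ A, u⁻¹ * φ u ∉ zOne X := by
        by_contra hno
        push Not at hno
        exact hu (S.mem_of_fixed_mod F hno)
      have hv : φ u ∉ zOne X := fun h => hu (by
        simpa using zOne_invar A φ⁻¹ (A.inv_mem hφ) _ h)
      have hv2 : φ u * φ u = 1 := by rw [← map_mul, hu2, map_one]
      set v := φ u with hvdef
      have huv : ∀ t ∈ zOne X, v ≠ u * t := fun t ht h => hφu (by
        rw [h, inv_mul_cancel_left]; exact ht)
      have hsub : ({1, z, u, u * z, v, v * z} : Finset X) ⊆ I := by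
        intro t ht
        simp only [Finset.mem_insert, Finset.mem_singleton] at ht
        simp only [hI, Finset.mem_filter, Finset.mem_univ, true_and]
        rcases ht with rfl | rfl | rfl | rfl | rfl | rfl
        · exact one_mul 1
        · exact hz.2
        · exact hu2
        · rw [sq_mul (zOne_comm hz u), hu2, hz.2, one_mul]
        · exact hv2
        · rw [sq_mul (zOne_comm hz v), hv2, hz.2, one_mul]
      have hcard6 : ({1, z, u, u * z, v, v * z} : Finset X).card = 6 := by
        have n1 : (1 : X) ≠ u * z := fun h => huz (h ▸ one_mem _)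
        have n2 : (1 : X) ≠ v := fun h => hv (h ▸ one_mem _)
        have n3 : (1 : X) ≠ v * z := fun h => hv (by
          rw [eq_inv_of_mul_eq_one_left h.symm]; exact inv_mem hz)
        have n4 : z ≠ u := fun h => hu (h ▸ hz)
        have n5 : z ≠ u * z := fun h => hu1 (right_eq_mul.mp h)
        have n6 : z ≠ v := fun h => hv (h ▸ hz)
        have n7 : z ≠ v * z := fun h => n2 (right_eq_mul.mp h).symm
        have n8 : u ≠ u * z := fun h => hz1 (left_eq_mul.mp h)
        have n9 : u ≠ v := fun h => huv 1 (one_mem _) (by rw [mul_one]; exact h.symm)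
        have n10 : u ≠ v * z := fun h => huv z hz (by rw [h, mul_assoc, hz.2, mul_one])
        have n11 : u * z ≠ v := fun h => huv z hz h.symm
        have n12 : u * z ≠ v * z := fun h => n9 (mul_right_cancel h)
        have n13 : v ≠ v * z := fun h => hz1 (left_eq_mul.mp h)
        rw [Finset.card_insert_of_notMem (by simp [hz1.symm, hu1.symm, n1, n2, n3]),
          Finset.card_insert_of_notMem (by simp [n4, n5, n6, n7]),
          Finset.card_insert_of_notMem (by simp [n8, n9, n10]),
          Finset.card_insert_of_notMem (by simp [n11, n12]),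
          Finset.card_insert_of_notMem (by simp [n13]), Finset.card_singleton]
      have heq := Finset.eq_of_subset_of_card_le hsub (by omega)
      have hw : φ v ∈ ({1, z, u, u * z, v, v * z} : Finset X) := by
        rw [heq]
        simp only [hI, Finset.mem_filter, Finset.mem_univ, true_and]
        rw [← map_mul, hv2, map_one]
      have hwu : u⁻¹ * φ v ∈ zOne X → False := fun h =>
        hφu (mod_fixed_of_sq (S.odd_orderOf hφ) h2 (by rw [pow_two, MulAut.mul_apply]; exact h))
      have hwv : v⁻¹ * φ v ∈ zOne X → False := fun h => hφu (by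
        have h' : φ (u⁻¹ * v) ∈ zOne X := by
          rw [map_mul, map_inv, ← hvdef]; exact h
        simpa using zOne_invar A φ⁻¹ (A.inv_mem hφ) _ h')
      have hwz : φ v ∈ zOne X → False := fun h => hv (by
        simpa using zOne_invar A φ⁻¹ (A.inv_mem hφ) _ h)
      simp only [Finset.mem_insert, Finset.mem_singleton] at hw
      rcases hw with h | h | h | h | h | h
      · exact hwz (h ▸ one_mem _)
      · exact hwz (h ▸ hz)
      · exact hwu (by rw [h, inv_mul_cancel]; exact one_mem _)
      · exact hwu (by rw [h, inv_mul_cancel_left]; exact hz)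
      · exact hwv (by rw [h, inv_mul_cancel]; exact one_mem _)
      · exact hwv (by rw [h, inv_mul_cancel_left]; exact hz)
    · right
      have hM32 : M = 32 := by omega
      refine ⟨hM32, ?_⟩
      have hI12 : I.card = 12 := by omega
      have he : (Finset.univ.filter fun x : X => orderOf x = 2) = I.erase 1 := by
        ext x
        simp only [hI, Finset.mem_filter, Finset.mem_univ, true_and, Finset.mem_erase]
        constructor
        · intro h
          refine ⟨fun h1 => by rw [h1, orderOf_one] at h; norm_num at h, ?_⟩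
          rw [← pow_two, ← h, pow_orderOf_eq_one]
        · exact fun h => orderOf_eq_prime (by rw [pow_two]; exact h.2) h.1
      rw [Nat.card_eq_fintype_card, Fintype.card_subtype, he,
        Finset.card_erase_of_mem (by simp [hI]), hI12]
  · push Not at hsing
    have hI2 : I.card = 2 := by
      rw [← h2, Nat.card_eq_fintype_card, Fintype.card_subtype, hI]
      congr 1
      ext x
      simp only [Finset.mem_filter, Finset.mem_univ, true_and]
      exact ⟨fun h => hsing x h, fun h => h.2⟩
    have hT4 : T = 4 - (M : ℤ) := by rw [hI2] at hTI; push_cast at hTI; linarith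
    have hsol : ((M : ℤ) - 2) * ((M : ℤ) - 8) = 0 := by
      linear_combination hT + (-T - 4 + (M : ℤ)) * hT4
    rcases mul_eq_zero.mp hsol with hM2 | hM8
    · exfalso
      have htop : zOne X = ⊤ := Subgroup.eq_top_of_card_eq _ (by rw [h2]; omega)
      have hbot : commutator X = ⊥ := by
        rw [commutator_def, eq_bot_iff, Subgroup.commutator_le]
        intro x _ y _
        have hy : y ∈ zOne X := htop ▸ Subgroup.mem_top y
        exact Subgroup.mem_bot.mpr
          (commutatorElement_eq_one_iff_mul_comm.mpr (zOne_comm hy x))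
      exact hne (eq_bot_iff.mpr (hbot ▸ F.le_commutator))
    · left
      have hM8' : Nat.card X = 8 := by omega
      obtain ⟨a, b, hcab⟩ : ∃ a b : X, ⁅b, a⁆ ≠ 1 := by
        by_contra hno
        push Not at hno
        refine hne (eq_bot_iff.mpr (F.le_commutator.trans ?_))
        rw [commutator_def, Subgroup.commutator_le]
        exact fun x _ y _ => Subgroup.mem_bot.mpr (hno y x)
      have hsq : ∀ x : X, x ∉ zOne X → x * x = z := fun x hx =>
        (two_elements h2 hz (F.sq x) hz1).resolve_left fun h => hx (hsing x h)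
      have ha : a ∉ zOne X := fun h =>
        hcab (commutatorElement_eq_one_iff_mul_comm.mpr (zOne_comm h b))
      have hb : b ∉ zOne X := fun h =>
        hcab (commutatorElement_eq_one_iff_mul_comm.mpr (zOne_comm h a).symm)
      obtain ⟨⟨e⟩, hc8⟩ := H31.Eight.q8_of_pair hz1 hz.2 (hsq a ha) (hsq b hb)
        ((two_elements h2 hz (F.comm b a) hz1).resolve_left hcab)
      have htop : Subgroup.closure ({a, b} : Set X) = ⊤ :=
        Subgroup.eq_top_of_card_eq _ (by rw [hc8, hM8'])
      exact ⟨(Subgroup.topEquiv.symm.trans (MulEquiv.subgroupCongr htop.symm)).trans e⟩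

end H2.ScnEmpty
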