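import Cfsg.Agent.H2.ScnEmpty.Basic

/-!
The case in which `A` centralises the involutions of the centre.
-/

set_option autoImplicit false

namespace H2.ScnEmpty

open scoped commutatorElement

variable {X : Type*} [Group X]

/-- The common outcome of the two cases. -/
structure Final (X : Type*) [Group X] : Prop where
  sq : ∀ x : X, x * x ∈ zOne X
  comm : ∀ x y : X, ⁅x, y⁆ ∈ zOne X
  center_le : Subgroup.center X ≤ zOne X
  le_commutator : zOne X ≤ commutator X

theorem comm_mul_left (hc : ∀ x y : X, ⁅x, y⁆ ∈ Subgroup.center X) (x y z : X) :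
    ⁅x * y, z⁆ = ⁅x, z⁆ * ⁅y, z⁆ := by
  have h := Subgroup.mem_center_iff.mp (hc y z)
  calc ⁅x * y, z⁆ = x * ⁅y, z⁆ * x⁻¹ * ⁅x, z⁆ := by simp only [commutatorElement_def]; group
    _ = ⁅y, z⁆ * ⁅x, z⁆ := by rw [h x]; group
    _ = _ := (h _).symm

theorem comm_mul_right (hc : ∀ x y : X, ⁅x, y⁆ ∈ Subgroup.center X) (x y z : X) :
    ⁅x, y * z⁆ = ⁅x, y⁆ * ⁅x, z⁆ := by
  have h := Subgroup.mem_center_iff.mp (hc x z)
  calc ⁅x, y * z⁆ = ⁅x, y⁆ * (y * ⁅x, z⁆ * y⁻¹) := by simp only [commutatorElement_def]; group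
    _ = _ := by rw [h y]; group

theorem comm_pow_left (hc : ∀ x y : X, ⁅x, y⁆ ∈ Subgroup.center X) (x y : X) :
    ∀ n : ℕ, ⁅x ^ n, y⁆ = ⁅x, y⁆ ^ n := by
  intro n
  induction n with
  | zero => simp [commutatorElement_def]
  | succ n ih => rw [pow_succ, comm_mul_left hc, ih, pow_succ]

theorem comm_pow_right (hc : ∀ x y : X, ⁅x, y⁆ ∈ Subgroup.center X) (x y : X) :
    ∀ n : ℕ, ⁅x, y ^ n⁆ = ⁅x, y⁆ ^ n := by
  intro n
  induction n with
  | zero => simp [commutatorElement_def]
  | succ n ih => rw [pow_succ, comm_mul_right hc, ih, pow_succ]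

theorem comm_mem_center_invar {N : Subgroup X} {φ : MulAut X} (hN : ∀ n ∈ N, φ n ∈ N) :
    ∀ n ∈ N, (∀ x : X, ⁅n, x⁆ ∈ Subgroup.center X) →
      ∀ x : X, ⁅φ n, x⁆ ∈ Subgroup.center X := by
  intro n _ h x
  have h' := h (φ.symm x)
  rw [Subgroup.mem_center_iff] at h' ⊢
  intro g
  have h2 := congrArg φ (h' (φ.symm g))
  simpa [map_commutatorElement] using h2

variable [Finite X] {A : Subgroup (MulAut X)}

namespace Setup

variable (S : Setup A) (hfix : ∀ φ ∈ A, ∀ z ∈ zOne X, φ z = z)

include S hfix

/-- Invariant normal abelian subgroups are centralised by `A`, hence central. -/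
theorem abelian_le_center (N : Subgroup X) (hn : N.Normal) (hi : Invar A N)
    (hN : ∀ a ∈ N, ∀ b ∈ N, a * b = b * a) : N ≤ Subgroup.center X :=
  S.le_center_of_fixed N hn fun φ hφ => S.fixed_of_involutions hφ N (hi φ hφ) hN fun n h h2 =>
    hfix φ hφ n (S.involution_mem N hn hi hN h h2)

theorem center_fixed : ∀ φ ∈ A, ∀ z ∈ Subgroup.center X, φ z = z := by
  intro φ hφ
  have hi : ∀ z ∈ Subgroup.center X, φ z ∈ Subgroup.center X := by
    intro z hz
    rw [Subgroup.mem_center_iff] at hz ⊢
    intro g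
    have h := congrArg φ (hz (φ.symm g))
    simpa using h
  exact S.fixed_of_involutions hφ _ hi (fun a _ b hb => Subgroup.mem_center_iff.mp hb a)
    fun z hz h2 => hfix φ hφ z ⟨hz, h2⟩

theorem commutator_le_center : commutator X ≤ Subgroup.center X := by
  classical
  haveI : Fact (Nat.Prime 2) := ⟨Nat.prime_two⟩
  let N : Subgroup X :=
    { carrier := {n | n ∈ commutator X ∧ ∀ x : X, ⁅n, x⁆ ∈ Subgroup.center X}
      one_mem' := ⟨one_mem _, fun x => by simp [commutatorElement_def]⟩
      mul_mem' := fun {a b} ha hb => ⟨mul_mem ha.1 hb.1, fun x => by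
        rw [show ⁅a * b, x⁆ = a * ⁅b, x⁆ * a⁻¹ * ⁅a, x⁆ by
          simp only [commutatorElement_def]; group]
        exact mul_mem ((inferInstance : (Subgroup.center X).Normal).conj_mem _ (hb.2 x) a)
          (ha.2 x)⟩
      inv_mem' := fun {a} ha => ⟨inv_mem ha.1, fun x => by
        rw [show ⁅a⁻¹, x⁆ = a⁻¹ * ⁅a, x⁆⁻¹ * a⁻¹⁻¹ by simp only [commutatorElement_def]; group]
        exact (inferInstance : (Subgroup.center X).Normal).conj_mem _ (inv_mem (ha.2 x)) _⟩ }
  have hn : N.Normal := by
    constructor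
    intro a ha g
    refine ⟨(inferInstance : (commutator X).Normal).conj_mem a ha.1 g, fun x => ?_⟩
    rw [show ⁅g * a * g⁻¹, x⁆ = g * ⁅a, g⁻¹ * x * g⁆ * g⁻¹ by
      simp only [commutatorElement_def]; group]
    exact (inferInstance : (Subgroup.center X).Normal).conj_mem _ (ha.2 _) g
  have hi : Invar A N := by
    intro φ hφ a ha
    have hc : ∀ a ∈ commutator X, φ a ∈ commutator X := by
      intro a ha
      have h := Subgroup.map_commutator (⊤ : Subgroup X) ⊤ (φ : X →* X)
      rw [Subgroup.map_top_of_surjective (φ : X →* X) φ.surjective] at h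
      rw [commutator_def] at ha ⊢
      rw [← h]
      exact Subgroup.mem_map_of_mem _ ha
    exact ⟨hc a ha.1, comm_mem_center_invar hc a ha.1 ha.2⟩
  have hab : ∀ a ∈ N, ∀ b ∈ N, a * b = b * a := by
    intro a ha b hb
    let f : X →* Subgroup.center X :=
      { toFun := fun x => ⟨⁅a, x⁆, ha.2 x⟩
        map_one' := Subtype.ext (by simp [commutatorElement_def])
        map_mul' := fun x y => Subtype.ext (by
          show ⁅a, x * y⁆ = ⁅a, x⁆ * ⁅a, y⁆
          rw [show ⁅a, x * y⁆ = ⁅a, x⁆ * (x * ⁅a, y⁆ * x⁻¹) by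
            simp only [commutatorElement_def]; group, Subgroup.mem_center_iff.mp (ha.2 y) x]
          group) }
    letI : CommGroup (Subgroup.center X) :=
      { (inferInstance : Group (Subgroup.center X)) with
        mul_comm := fun u v => Subtype.ext (Subgroup.mem_center_iff.mp v.2 u) }
    have h := Abelianization.commutator_subset_ker f hb.1
    exact commutatorElement_eq_one_iff_mul_comm.mp
      (congrArg Subtype.val (MonoidHom.mem_ker.mp h))
  have hle := S.abelian_le_center hfix N hn hi hab
  by_contra hne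
  set π := QuotientGroup.mk' (Subgroup.center X) with hπ
  haveI : ((commutator X).map π).Normal :=
    Subgroup.Normal.map inferInstance π (QuotientGroup.mk'_surjective _)
  have hQ : IsPGroup 2 (X ⧸ Subgroup.center X) := S.pTwo.to_quotient _
  have hne' : (commutator X).map π ≠ ⊥ := by
    rw [Ne, Subgroup.map_eq_bot_iff, hπ, QuotientGroup.ker_mk']
    exact hne
  refine H6.inf_center_ne_bot hQ hne' (eq_bot_iff.mpr ?_)
  rintro y ⟨⟨a, ha, rfl⟩, hy⟩
  rw [Subgroup.mem_bot, hπ, QuotientGroup.mk'_apply, QuotientGroup.eq_one_iff]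
  refine hle ⟨ha, fun x => ?_⟩
  have h2 := Subgroup.mem_center_iff.mp hy (π x)
  rw [← QuotientGroup.eq_one_iff, ← QuotientGroup.mk'_apply (Subgroup.center X),
    map_commutatorElement, commutatorElement_eq_one_iff_mul_comm]
  exact h2.symm

theorem sq_eq_one_comm (x y : X) : ⁅x, y⁆ * ⁅x, y⁆ = 1 := by
  classical
  have hcle := S.commutator_le_center hfix
  have hc : ∀ x y : X, ⁅x, y⁆ ∈ Subgroup.center X := fun x y => hcle
    (Subgroup.commutator_mem_commutator (Subgroup.mem_top x) (Subgroup.mem_top y))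
  suffices H : ∀ k : ℕ, (∀ x y : X, ⁅x, y⁆ ^ 2 ^ k = 1) → ∀ x y : X, ⁅x, y⁆ ^ 2 ^ 1 = 1 by
    obtain ⟨n, hn⟩ := IsPGroup.iff_card.mp (show IsPGroup 2 X from S.pTwo)
    have h := H n (fun x y => by rw [← hn]; exact pow_card_eq_one') x y
    simpa [pow_two] using h
  intro k
  induction k with
  | zero =>
    intro h x y
    have := h x y
    simp only [pow_zero, pow_one] at this
    simp [this]
  | succ k ih =>
    intro h
    rcases Nat.eq_zero_or_pos k with rfl | hk
    · simpa using h
    refine ih fun x y => ?_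
    set T : Set X := {g | g ∈ Subgroup.center X ∨ ∃ w : X, g = w ^ 2 ^ k} with hT
    have hcomm : ∀ a ∈ T, ∀ b ∈ T, a * b = b * a := by
      rintro a (ha | ⟨u, rfl⟩) b hb
      · exact (Subgroup.mem_center_iff.mp ha b).symm
      · rcases hb with hb | ⟨v, rfl⟩
        · exact Subgroup.mem_center_iff.mp hb _
        · rw [← commutatorElement_eq_one_iff_mul_comm, comm_pow_left hc, comm_pow_right hc,
            ← pow_mul, ← pow_add, show k + k = (k + 1) + (k - 1) by omega, pow_add, pow_mul, h,
            one_pow]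
    have hN : Subgroup.center X ≤ Subgroup.closure T := fun g hg => Subgroup.subset_closure (Or.inl hg)
    have hn : (Subgroup.closure T).Normal := by
      constructor
      intro a ha g
      have : g * a * g⁻¹ = ⁅g, a⁆ * a := by simp only [commutatorElement_def]; group
      rw [this]
      exact mul_mem (hN (hc g a)) ha
    have hab : ∀ a ∈ Subgroup.closure T, ∀ b ∈ Subgroup.closure T, a * b = b * a := by
      have h1 : Subgroup.closure T ≤ Subgroup.centralizer (Subgroup.closure T : Set X) := by
        rw [Subgroup.centralizer_closure, Subgroup.closure_le]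
        intro a ha
        rw [SetLike.mem_coe, Subgroup.mem_centralizer_iff]
        exact fun b hb => hcomm b hb a ha
      intro a ha b hb
      exact (Subgroup.mem_centralizer_iff.mp (h1 ha) b hb).symm
    have hi : Invar A (Subgroup.closure T) := by
      intro φ hφ a ha
      have h1 : Subgroup.closure T ≤ (Subgroup.closure T).comap (φ : X →* X) := by
        rw [Subgroup.closure_le]
        rintro a (ha | ⟨u, rfl⟩)
        · refine Subgroup.subset_closure (Or.inl ?_)
          show φ a ∈ Subgroup.center X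
          rw [S.center_fixed hfix φ hφ a ha]; exact ha
        · exact Subgroup.subset_closure (Or.inr ⟨φ u, map_pow _ _ _⟩)
      exact h1 ha
    have hle := S.abelian_le_center hfix _ hn hi hab
    have hx : x ^ 2 ^ k ∈ Subgroup.center X := hle (Subgroup.subset_closure (Or.inr ⟨x, rfl⟩))
    rw [← comm_pow_left hc, commutatorElement_eq_one_iff_mul_comm]
    exact (Subgroup.mem_center_iff.mp hx y).symm

theorem final_fixed : Final X := by
  classical
  haveI : Fact (Nat.Prime 2) := ⟨Nat.prime_two⟩
  have hcle := S.commutator_le_center hfix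
  have hc : ∀ x y : X, ⁅x, y⁆ ∈ Subgroup.center X := fun x y => hcle
    (Subgroup.commutator_mem_commutator (Subgroup.mem_top x) (Subgroup.mem_top y))
  have hc2 := S.sq_eq_one_comm hfix
  have hsqc : ∀ x : X, x * x ∈ Subgroup.center X := fun x => Subgroup.mem_center_iff.mpr fun g =>
    (commutatorElement_eq_one_iff_mul_comm.mp (by rw [comm_mul_left hc, hc2])).symm
  letI : CommGroup (Subgroup.center X) :=
    { (inferInstance : Group (Subgroup.center X)) with
      mul_comm := fun u v => Subtype.ext (Subgroup.mem_center_iff.mp v.2 u) }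
  have hswap : ∀ x y : X, x * y * (x * y) = ⁅y, x⁆ * (x * x * (y * y)) := by
    intro x y
    have h := Subgroup.mem_center_iff.mp (hc y x) x
    calc x * y * (x * y) = x * (⁅y, x⁆ * x * y) * y := by
          simp only [commutatorElement_def]; group
      _ = (x * ⁅y, x⁆) * x * (y * y) := by group
      _ = _ := by rw [h]; group
  let f4 : X →* Subgroup.center X :=
    { toFun := fun x => ⟨x * x, hsqc x⟩ ^ 2
      map_one' := by simp
      map_mul' := fun x y => by
        have h1 : (⟨x * y * (x * y), hsqc (x * y)⟩ : Subgroup.center X) =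
            ⟨⁅y, x⁆, hc y x⟩ * (⟨x * x, hsqc x⟩ * ⟨y * y, hsqc y⟩) := Subtype.ext (hswap x y)
        rw [h1, mul_pow, mul_pow, show (⟨⁅y, x⁆, hc y x⟩ : Subgroup.center X) ^ 2 = 1 from
          Subtype.ext (by simpa [pow_two] using hc2 y x), one_mul] }
  have h4 : ∀ x : X, x * x * (x * x) = 1 := by
    intro x
    have h := S.eq_one_of_hom f4 (fun φ hφ y => Subtype.ext (by
      show (φ y * φ y) ^ 2 = (y * y) ^ 2
      rw [← map_mul, S.center_fixed hfix φ hφ _ (hsqc y)])) x
    simpa [f4, pow_two] using congrArg Subtype.val h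
  have hsq : ∀ x : X, x * x ∈ zOne X := fun x => ⟨hsqc x, h4 x⟩
  have hcomm : ∀ x y : X, ⁅x, y⁆ ∈ zOne X := fun x y => ⟨hc x y, hc2 x y⟩
  let g : X →* Abelianization X :=
    { toFun := fun x => Abelianization.of (x * x)
      map_one' := by simp
      map_mul' := fun x y => by simp only [map_mul]; exact mul_mul_mul_comm _ _ _ _ }
  have hg : ∀ x, Abelianization.of (x * x) = 1 := S.eq_one_of_hom g fun φ hφ y => by
    show Abelianization.of (φ y * φ y) = Abelianization.of (y * y)
    rw [← map_mul, S.center_fixed hfix φ hφ _ (hsqc y)]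
  haveI : Fintype A := Fintype.ofFinite A
  let P : X →* Abelianization X :=
    { toFun := fun x => ∏ φ : A, Abelianization.of ((φ : MulAut X) x)
      map_one' := by simp
      map_mul' := fun x y => by rw [← Finset.prod_mul_distrib]; simp }
  have hP : ∀ x, P x = 1 := S.eq_one_of_hom P fun ψ hψ y => by
    show ∏ φ : A, Abelianization.of ((φ : MulAut X) (ψ y)) =
      ∏ φ : A, Abelianization.of ((φ : MulAut X) y)
    exact Fintype.prod_equiv (Equiv.mulRight ⟨ψ, hψ⟩) _ _ (fun φ => rfl)
  have hzc : Subgroup.center X ≤ commutator X := by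
    intro z hz
    have h : ∏ φ : A, Abelianization.of ((φ : MulAut X) z) = 1 := hP z
    rw [Finset.prod_congr rfl (fun φ _ => by rw [S.center_fixed hfix φ φ.2 z hz]),
      Finset.prod_const, Finset.card_univ, ← Nat.card_eq_fintype_card] at h
    obtain ⟨j, hj⟩ := S.odd
    rw [hj, pow_succ, pow_mul, pow_two, ← map_mul, hg, one_pow, one_mul] at h
    exact (QuotientGroup.eq_one_iff z).mp h
  have hcz : commutator X ≤ zOne X := by
    rw [commutator_def, Subgroup.commutator_le]
    exact fun x _ y _ => hcomm x y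
  exact ⟨hsq, hcomm, hzc.trans hcz, zOne_le_center.trans hzc⟩

end Setup

end H2.ScnEmpty
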