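import Cfsg.Agent.H2.ScnEmpty.Fixed

/-!
The case in which `A` moves an involution of the centre.
-/

set_option autoImplicit false
set_option linter.unusedSectionVars false

namespace H2.ScnEmpty

open scoped commutatorElement

variable {X : Type*} [Group X]

/-- `b⁻¹` times the conjugate of `b` by `x`. -/
def dlt (x b : X) : X := b⁻¹ * (x * b * x⁻¹)

theorem dlt_eq_one_iff {x b : X} : dlt x b = 1 ↔ x * b = b * x := by
  rw [dlt, inv_mul_eq_one, eq_mul_inv_iff_mul_eq]
  exact eq_comm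

theorem dlt_central {x b : X} (h : b ∈ Subgroup.center X) : dlt x b = 1 :=
  dlt_eq_one_iff.mpr (Subgroup.mem_center_iff.mp h x)

theorem dlt_map (ψ : MulAut X) (x b : X) : dlt (ψ x) (ψ b) = ψ (dlt x b) := by
  simp [dlt, map_mul, map_inv]

theorem commutator_invar (A : Subgroup (MulAut X)) : Invar A (commutator X) := by
  intro φ _ a ha
  have h := Subgroup.map_commutator (⊤ : Subgroup X) ⊤ (φ : X →* X)
  rw [Subgroup.map_top_of_surjective (φ : X →* X) φ.surjective] at h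
  rw [commutator_def] at ha ⊢
  rw [← h]
  exact Subgroup.mem_map_of_mem _ ha

theorem centralizer_invar {A : Subgroup (MulAut X)} {B : Subgroup X} (hB : Invar A B) :
    Invar A (Subgroup.centralizer (B : Set X)) := by
  intro φ hφ c hc
  rw [Subgroup.mem_centralizer_iff] at hc ⊢
  intro b hb
  have h1 : φ⁻¹ b ∈ B := hB _ (A.inv_mem hφ) b hb
  have h2 := congrArg φ (hc _ h1)
  simpa using h2

/-- A normal subgroup properly above `B` contains a central involution modulo `B`. -/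
theorem exists_two_central [Finite X] (hX : IsPGroup 2 X) (B K : Subgroup X) (hB : B.Normal)
    (hK : K.Normal) (hne : ¬ K ≤ B) :
    ∃ d ∈ K, d ∉ B ∧ d * d ∈ B ∧ ∀ x : X, ⁅d, x⁆ ∈ B := by
  haveI := hB; haveI := hK
  haveI : Fact (Nat.Prime 2) := ⟨Nat.prime_two⟩
  set π := QuotientGroup.mk' B with hπ
  haveI : (K.map π).Normal := Subgroup.Normal.map hK π (QuotientGroup.mk'_surjective _)
  have hQ : IsPGroup 2 (X ⧸ B) := hX.to_quotient _
  have hne' : K.map π ≠ ⊥ := by
    rw [Ne, Subgroup.map_eq_bot_iff, hπ, QuotientGroup.ker_mk']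
    exact hne
  set L := K.map π ⊓ Subgroup.center (X ⧸ B)
  have hL : L ≠ ⊥ := H6.inf_center_ne_bot hQ hne'
  haveI : Nontrivial L := (Subgroup.nontrivial_iff_ne_bot L).mpr hL
  have hd : 2 ∣ Nat.card L :=
    ((hQ.to_subgroup L).card_eq_or_dvd).resolve_left Finite.one_lt_card.ne'
  obtain ⟨z, hz⟩ := exists_prime_orderOf_dvd_card' 2 hd
  obtain ⟨⟨d, hdK, hdz⟩, hzc⟩ := z.2
  have hz2 : (z : X ⧸ B) * z = 1 := by
    have h2 := congrArg Subtype.val (hz ▸ pow_orderOf_eq_one z)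
    rw [← pow_two]; simpa using h2
  refine ⟨d, hdK, ?_, ?_, fun x => ?_⟩
  · intro h
    have h1 : (z : X ⧸ B) = 1 := by
      rw [← hdz]
      exact (QuotientGroup.eq_one_iff d).mpr h
    have : z = 1 := Subtype.ext h1
    rw [this, orderOf_one] at hz
    exact absurd hz (by norm_num)
  · rw [← QuotientGroup.eq_one_iff, ← QuotientGroup.mk'_apply B, map_mul, ← hπ, hdz, hz2]
  · rw [← QuotientGroup.eq_one_iff, ← QuotientGroup.mk'_apply B, map_commutatorElement, ← hπ,
      hdz, commutatorElement_eq_one_iff_mul_comm]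
    exact (Subgroup.mem_center_iff.mp hzc _).symm

theorem four_elements [Finite X] (h4 : Nat.card (zOne X) = 4) {z w u : X} (hz : z ∈ zOne X)
    (hw : w ∈ zOne X) (hu : u ∈ zOne X) (hz1 : z ≠ 1) (hw1 : w ≠ 1) (hzw : z ≠ w) :
    u = 1 ∨ u = z ∨ u = w ∨ u = z * w := by
  have h12 : z * w ≠ 1 := fun h => hzw ((eq_inv_of_mul_eq_one_left h).trans (inv_eq_self hw.2))
  have h13 : z * w ≠ z := fun h => hw1 (mul_eq_left.mp h)
  have h14 : z * w ≠ w := fun h => hz1 (mul_eq_right.mp h)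
  have hsub : ({1, z, w, z * w} : Set X) ⊆ (zOne X : Set X) := by
    intro t ht
    simp only [Set.mem_insert_iff, Set.mem_singleton_iff] at ht
    rcases ht with rfl | rfl | rfl | rfl
    · exact one_mem _
    · exact hz
    · exact hw
    · exact mul_mem hz hw
  have hcard : ({1, z, w, z * w} : Set X).ncard = 4 := by
    rw [Set.ncard_insert_of_notMem (by simp [hz1.symm, hw1.symm, h12.symm]),
      Set.ncard_insert_of_notMem (by simp [hzw, h13.symm]),
      Set.ncard_insert_of_notMem (by simp [h14.symm]), Set.ncard_singleton]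
  have heq := Set.eq_of_subset_of_ncard_le hsub (by
    rw [hcard, ← Nat.card_coe_set_eq]; exact h4.le)
  have : u ∈ ({1, z, w, z * w} : Set X) := heq ▸ hu
  simpa using this

variable [Finite X] {A : Subgroup (MulAut X)}

theorem Setup.fix_all (S : Setup A) (h4 : Nat.card (zOne X) = 4) {χ : MulAut X} (hχ : χ ∈ A)
    {z : X} (hz : z ∈ zOne X) (hz1 : z ≠ 1) (hfix : χ z = z) : ∀ w ∈ zOne X, χ w = w := by
  intro w hw
  by_contra hne
  have hw1 : w ≠ 1 := by rintro rfl; simp at hne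
  have hzw : z ≠ w := by rintro rfl; exact hne hfix
  rcases four_elements h4 hz hw (zOne_invar A χ hχ w hw) hz1 hw1 hzw with h | h | h | h
  · exact hw1 (χ.injective (h.trans (map_one χ).symm))
  · exact hzw (χ.injective (h.trans hfix.symm)).symm
  · exact hne h
  · refine hne (eq_self_of_sq (S.odd_orderOf hχ) ?_)
    rw [pow_two, MulAut.mul_apply, h, map_mul, hfix, h, ← mul_assoc, hz.2, one_mul]

/-- The data of the case in which `φ` moves the central involutions. -/
structure Frame (A : Subgroup (MulAut X)) (φ : MulAut X) (B : Subgroup X) : Prop where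
  setup : Setup A
  mem : φ ∈ A
  card4 : Nat.card (zOne X) = 4
  fpf : ∀ z ∈ zOne X, φ z = z → z = 1
  normal : B.Normal
  invar : Invar A B
  comm : ∀ a ∈ B, ∀ b ∈ B, a * b = b * a
  center_le : Subgroup.center X ≤ B
  maximal : ∀ N : Subgroup X, N.Normal → Invar A N → (∀ a ∈ N, ∀ b ∈ N, a * b = b * a) →
    B ≤ N → N ≤ B

namespace Frame

variable {φ : MulAut X} {B : Subgroup X} (R : Frame A φ B)

include R

theorem inv_mem_zOne {z : X} (hz : z ∈ zOne X) : φ z ∈ zOne X := zOne_invar A φ R.mem z hz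

theorem ne_one {z : X} (hz1 : z ≠ 1) : φ z ≠ 1 := fun h =>
  hz1 (φ.injective (h.trans (map_one φ).symm))

theorem rot {z : X} (hz : z ∈ zOne X) : φ (φ z) = z * φ z := by
  by_cases hz1 : z = 1
  · simp [hz1]
  have h1 := R.inv_mem_zOne hz
  have hne : z ≠ φ z := fun h => hz1 (R.fpf z hz h.symm)
  rcases four_elements R.card4 hz h1 (R.inv_mem_zOne h1) hz1 (R.ne_one hz1) hne with h | h | h | h
  · exact absurd h (R.ne_one (R.ne_one hz1))
  · refine absurd (eq_self_of_sq (R.setup.odd_orderOf R.mem) ?_) hne.symm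
    rw [pow_two, MulAut.mul_apply, h]
  · exact absurd (φ.injective h).symm hne
  · exact h

theorem cube {z : X} (hz : z ∈ zOne X) : φ (φ (φ z)) = z := by
  rw [R.rot (R.inv_mem_zOne hz), R.rot hz, ← zOne_comm hz (φ z), ← mul_assoc,
    (R.inv_mem_zOne hz).2, one_mul]

theorem orbit {v u : X} (hv : v ∈ zOne X) (hu : u ∈ zOne X) (hv1 : v ≠ 1) :
    u = 1 ∨ u = v ∨ u = φ v ∨ u = φ (φ v) := by
  rw [R.rot hv]
  exact four_elements R.card4 hv (R.inv_mem_zOne hv) hu hv1 (R.ne_one hv1)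
    fun h => hv1 (R.fpf v hv h.symm)

theorem action {ψ : MulAut X} (hψ : ψ ∈ A) :
    (∀ z ∈ zOne X, ψ z = z) ∨ (∀ z ∈ zOne X, ψ z = φ z) ∨ ∀ z ∈ zOne X, ψ z = φ (φ z) := by
  have hne : zOne X ≠ ⊥ := fun h => by
    have := R.card4; rw [h, Subgroup.card_bot] at this; norm_num at this
  obtain ⟨⟨v, hv⟩, hv'⟩ := Subgroup.ne_bot_iff_exists_ne_one.mp hne
  have hv1 : v ≠ 1 := fun h => hv' (Subtype.ext h)
  rcases R.orbit hv (zOne_invar A ψ hψ v hv) hv1 with h | h | h | h
  · exact absurd (ψ.injective (h.trans (map_one ψ).symm)) hv1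
  · exact Or.inl (R.setup.fix_all R.card4 hψ hv hv1 h)
  · refine Or.inr (Or.inl fun z hz => ?_)
    have := R.setup.fix_all R.card4 (A.mul_mem (A.inv_mem R.mem) hψ) hv hv1 (by simp [h]) z hz
    have h2 := congrArg φ this
    simpa using h2
  · refine Or.inr (Or.inr fun z hz => ?_)
    have := R.setup.fix_all R.card4 (A.mul_mem (A.inv_mem (A.mul_mem R.mem R.mem)) hψ) hv hv1
      (by simp [h]) z hz
    have h2 := congrArg (φ * φ) this
    simpa using h2

theorem involution {b : X} (hb : b ∈ B) (h2 : b * b = 1) : b ∈ zOne X :=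
  R.setup.involution_mem B R.normal R.invar R.comm hb h2

theorem zOne_le : zOne X ≤ B := zOne_le_center.trans R.center_le

theorem dlt_mem (x : X) {b : X} (hb : b ∈ B) : dlt x b ∈ B :=
  B.mul_mem (B.inv_mem hb) (R.normal.conj_mem b hb x)

theorem dlt_mul_right (x : X) {b c : X} (hb : b ∈ B) (hc : c ∈ B) :
    dlt x (b * c) = dlt x b * dlt x c := by
  have h := R.comm _ (R.dlt_mem x hb) _ (B.inv_mem hc)
  calc dlt x (b * c) = c⁻¹ * dlt x b * (x * c * x⁻¹) := by simp only [dlt]; group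
    _ = dlt x b * c⁻¹ * (x * c * x⁻¹) := by rw [h]
    _ = _ := by simp only [dlt]; group

theorem dlt_pow (x : X) {b : X} (hb : b ∈ B) : ∀ n : ℕ, dlt x (b ^ n) = dlt x b ^ n := by
  intro n
  induction n with
  | zero => simp [dlt]
  | succ n ih => rw [pow_succ, R.dlt_mul_right x (B.pow_mem hb n) hb, ih, pow_succ]

theorem dlt_mul_left (x y : X) {b : X} (hb : b ∈ B) :
    dlt (x * y) b = dlt x b * dlt y b * dlt x (dlt y b) := by
  have hc := R.dlt_mem y hb
  calc dlt (x * y) b = dlt y b * dlt x (b * dlt y b) := by simp only [dlt]; group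
    _ = dlt y b * (dlt x b * dlt x (dlt y b)) := by rw [R.dlt_mul_right x hb hc]
    _ = _ := by rw [← mul_assoc, R.comm _ hc _ (R.dlt_mem x hb)]

theorem dlt_of_mem {x b : X} (hx : x ∈ B) (hb : b ∈ B) : dlt x b = 1 :=
  dlt_eq_one_iff.mpr (R.comm x hx b hb)

theorem frame_nontrivial_zOne : ∃ v ∈ zOne X, v ≠ 1 := by
  have hne : zOne X ≠ ⊥ := fun h => by
    have := R.card4; rw [h, Subgroup.card_bot] at this; norm_num at this
  obtain ⟨⟨v, hv⟩, hv'⟩ := Subgroup.ne_bot_iff_exists_ne_one.mp hne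
  exact ⟨v, hv, fun h => hv' (Subtype.ext h)⟩

/-! ### The case `B = Ω₁Z` -/

theorem sq_mem_small (hB : B ≤ zOne X) (x : X) : x * x ∈ B := by
  classical
  have hBc : ∀ b ∈ B, ∀ g : X, g * b = b * g := fun b hb g => zOne_comm (hB hb) g
  have hexp : ∀ b ∈ B, b * b = 1 := fun b hb => (hB hb).2
  haveI := R.normal
  let D : Subgroup X :=
    { carrier := {d | d * d ∈ B ∧ ∀ x : X, ⁅d, x⁆ ∈ B}
      one_mem' := ⟨by rw [one_mul]; exact B.one_mem, fun x => by
        rw [commutatorElement_one_left]; exact B.one_mem⟩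
      mul_mem' := fun {a b} ha hb => by
        refine ⟨?_, fun x => ?_⟩
        · rw [show a * b * (a * b) = a * ⁅b, a⁆ * a⁻¹ * (a * a * (b * b)) by
            simp only [commutatorElement_def]; group]
          exact B.mul_mem (R.normal.conj_mem _ (hb.2 a) a) (B.mul_mem ha.1 hb.1)
        · rw [show ⁅a * b, x⁆ = a * ⁅b, x⁆ * a⁻¹ * ⁅a, x⁆ by
            simp only [commutatorElement_def]; group]
          exact B.mul_mem (R.normal.conj_mem _ (hb.2 x) a) (ha.2 x)
      inv_mem' := fun {a} ha => by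
        refine ⟨by rw [← mul_inv_rev]; exact B.inv_mem ha.1, fun x => ?_⟩
        rw [show ⁅a⁻¹, x⁆ = a⁻¹ * ⁅a, x⁆⁻¹ * a⁻¹⁻¹ by simp only [commutatorElement_def]; group]
        exact R.normal.conj_mem _ (B.inv_mem (ha.2 x)) _ }
  have hDn : D.Normal := by
    constructor
    intro a ha g
    refine ⟨?_, fun x => ?_⟩
    · rw [show g * a * g⁻¹ * (g * a * g⁻¹) = g * (a * a) * g⁻¹ by group]
      exact R.normal.conj_mem _ ha.1 g
    · rw [show ⁅g * a * g⁻¹, x⁆ = g * ⁅a, g⁻¹ * x * g⁆ * g⁻¹ by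
        simp only [commutatorElement_def]; group]
      exact R.normal.conj_mem _ (ha.2 _) g
  have hDi : Invar A D := by
    intro ψ hψ a ha
    refine ⟨by rw [← map_mul]; exact R.invar ψ hψ _ ha.1, fun x => ?_⟩
    have h := R.invar ψ hψ _ (ha.2 (ψ.symm x))
    simpa [map_commutatorElement] using h
  have hBD : B ≤ D := fun b hb => ⟨B.mul_mem hb hb, fun x => by
    rw [commutatorElement_eq_one_iff_mul_comm.mpr (hBc b hb x).symm]; exact B.one_mem⟩
  set K := Subgroup.centralizer (D : Set X) with hK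
  haveI : D.Normal := hDn
  have hKn : K.Normal := inferInstance
  have hKi : Invar A K := centralizer_invar hDi
  have hKD : ∀ N : Subgroup X, N = K ⊓ D → N ≤ B := by
    rintro N rfl
    refine R.maximal _ inferInstance (fun ψ hψ a ha => ⟨hKi ψ hψ a ha.1, hDi ψ hψ a ha.2⟩)
      (fun a ha b hb => (Subgroup.mem_centralizer_iff.mp ha.1 b hb.2).symm) ?_
    exact le_inf (fun b hb => Subgroup.mem_centralizer_iff.mpr fun d _ => hBc b hb d) hBD
  have hKB : K ≤ B := by
    by_contra h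
    obtain ⟨d, hdK, hdB, hd2, hdc⟩ := exists_two_central R.setup.pTwo B K R.normal hKn h
    exact hdB (hKD _ rfl ⟨hdK, hd2, hdc⟩)
  apply hKB
  rw [hK, Subgroup.mem_centralizer_iff]
  intro d hd
  have hc : ⁅x, d⁆ ∈ B := by
    rw [← commutatorElement_inv]; exact B.inv_mem (hd.2 x)
  have h1 : ⁅x * x, d⁆ = 1 := by
    rw [show ⁅x * x, d⁆ = x * ⁅x, d⁆ * x⁻¹ * ⁅x, d⁆ by simp only [commutatorElement_def]; group,
      hBc _ hc x, mul_inv_cancel_right, hexp _ hc]
  exact (commutatorElement_eq_one_iff_mul_comm.mp h1).symm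

end Frame

/-- Exponent data for `B`. -/
structure Expo (B : Subgroup X) (m : ℕ) : Prop where
  two_le : 2 ≤ m
  pow_eq : ∀ b ∈ B, b ^ 2 ^ m = 1
  onto : ∀ z ∈ zOne X, ∃ b ∈ B, b ^ 2 ^ (m - 1) = z

namespace Frame

variable {φ : MulAut X} {B : Subgroup X} (R : Frame A φ B)

include R

theorem exists_expo (hB : ¬ B ≤ zOne X) : ∃ m, Expo B m := by
  classical
  have hex : ∃ m, ∀ b ∈ B, b ^ 2 ^ m = 1 := by
    obtain ⟨n, hn⟩ := exists_two_pow_card R.setup.pTwo B
    refine ⟨n, fun b hb => ?_⟩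
    have := pow_card_eq_one' (G := B) (x := ⟨b, hb⟩)
    rw [hn] at this
    exact congrArg Subtype.val this
  refine ⟨Nat.find hex, ?_, Nat.find_spec hex, ?_⟩
  · by_contra hlt
    apply hB
    intro b hb
    have h := Nat.find_spec hex b hb
    refine R.involution hb ?_
    have h01 : Nat.find hex = 0 ∨ Nat.find hex = 1 := by omega
    rcases h01 with h0 | h0 <;> rw [h0] at h
    · simp only [pow_zero, pow_one] at h; simp [h]
    · rwa [pow_one, pow_two] at h
  · have hm : Nat.find hex ≠ 0 := by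
      intro h0
      apply hB
      intro b hb
      have h := Nat.find_spec hex b hb
      rw [h0] at h
      simp only [pow_zero, pow_one] at h
      subst h; exact one_mem _
    have hmin := Nat.find_min hex (m := Nat.find hex - 1) (by omega)
    push Not at hmin
    obtain ⟨b, hb, hbv⟩ := hmin
    have hv : b ^ 2 ^ (Nat.find hex - 1) ∈ zOne X := R.involution (B.pow_mem hb _) (by
      rw [← pow_two, ← pow_mul, ← pow_succ, show Nat.find hex - 1 + 1 = Nat.find hex by omega]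
      exact Nat.find_spec hex b hb)
    intro z hz
    rcases R.orbit hv hz hbv with rfl | rfl | rfl | rfl
    · exact ⟨1, B.one_mem, one_pow _⟩
    · exact ⟨b, hb, rfl⟩
    · exact ⟨φ b, R.invar φ R.mem b hb, (map_pow φ b _).symm⟩
    · exact ⟨φ (φ b), R.invar φ R.mem _ (R.invar φ R.mem b hb), by rw [map_pow, map_pow]⟩

variable {m : ℕ} (E : Expo B m)

include E

theorem top_mem {b : X} (hb : b ∈ B) : b ^ 2 ^ (m - 1) ∈ zOne X := by
  refine R.involution (B.pow_mem hb _) ?_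
  have := E.two_le
  rw [← pow_two, ← pow_mul, ← pow_succ, show m - 1 + 1 = m by omega]
  exact E.pow_eq b hb

theorem top_mul {b c : X} (hb : b ∈ B) (hc : c ∈ B) :
    (b * c) ^ 2 ^ (m - 1) = b ^ 2 ^ (m - 1) * c ^ 2 ^ (m - 1) :=
  Commute.mul_pow (R.comm b hb c hc) _

theorem exists_root : ∀ k j : ℕ, j + k = m → ∀ b ∈ B, b ^ 2 ^ k = 1 →
    ∃ d ∈ B, b = d ^ 2 ^ j := by
  intro k
  induction k with
  | zero =>
    intro j _ b _ h
    simp only [pow_zero, pow_one] at h
    exact ⟨1, B.one_mem, by simp [h]⟩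
  | succ k ih =>
    intro j hjk b hb h
    have hz : b ^ 2 ^ k ∈ zOne X := R.involution (B.pow_mem hb _) (by
      rw [← pow_two, ← pow_mul, ← pow_succ]; exact h)
    obtain ⟨r, hr, hrz⟩ := E.onto _ hz
    have hrj : r ^ 2 ^ j ∈ B := B.pow_mem hr _
    have hc : (b * (r ^ 2 ^ j)⁻¹) ^ 2 ^ k = 1 := by
      rw [Commute.mul_pow (R.comm b hb _ (B.inv_mem hrj)), inv_pow, ← pow_mul, ← pow_add,
        show j + k = m - 1 by omega, hrz, mul_inv_cancel]
    obtain ⟨d, hd, hd'⟩ := ih (j + 1) (by omega) _ (B.mul_mem hb (B.inv_mem hrj)) hc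
    refine ⟨d ^ 2 * r, B.mul_mem (B.pow_mem hd 2) hr, ?_⟩
    rw [Commute.mul_pow (R.comm _ (B.pow_mem hd 2) r hr), ← pow_mul,
      show 2 * 2 ^ j = 2 ^ (j + 1) by rw [pow_succ, mul_comm], ← hd', inv_mul_cancel_right]

theorem exists_sq {b : X} (hb : b ∈ B) (h : b ^ 2 ^ (m - 1) = 1) : ∃ d ∈ B, b = d * d := by
  have := E.two_le
  obtain ⟨d, hd, h'⟩ := R.exists_root E (m - 1) 1 (by omega) b hb h
  exact ⟨d, hd, by rw [h', pow_one, pow_two]⟩

theorem top_dlt (x : X) {b : X} (hb : b ∈ B) : dlt x b ^ 2 ^ (m - 1) = 1 := by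
  rw [← R.dlt_pow x hb]
  exact dlt_central (zOne_le_center (R.top_mem E hb))

theorem centralizer_le : Subgroup.centralizer (B : Set X) ≤ B := by
  classical
  haveI := R.normal
  have hm := E.two_le
  set C := Subgroup.centralizer (B : Set X) with hC
  have hCc : ∀ c ∈ C, ∀ b ∈ B, b * c = c * b := fun c hc b hb =>
    Subgroup.mem_centralizer_iff.mp hc b hb
  let D : Subgroup X :=
    { carrier := {d | d ∈ C ∧ d * d ∈ B ∧ ∀ x : X, ⁅d, x⁆ ∈ B}
      one_mem' := ⟨C.one_mem, by rw [one_mul]; exact B.one_mem, fun x => by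
        rw [commutatorElement_one_left]; exact B.one_mem⟩
      mul_mem' := fun {a b} ha hb => by
        refine ⟨C.mul_mem ha.1 hb.1, ?_, fun x => ?_⟩
        · rw [show a * b * (a * b) = a * ⁅b, a⁆ * a⁻¹ * (a * a * (b * b)) by
            simp only [commutatorElement_def]; group]
          exact B.mul_mem (R.normal.conj_mem _ (hb.2.2 a) a) (B.mul_mem ha.2.1 hb.2.1)
        · rw [show ⁅a * b, x⁆ = a * ⁅b, x⁆ * a⁻¹ * ⁅a, x⁆ by
            simp only [commutatorElement_def]; group]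
          exact B.mul_mem (R.normal.conj_mem _ (hb.2.2 x) a) (ha.2.2 x)
      inv_mem' := fun {a} ha => by
        refine ⟨C.inv_mem ha.1, by rw [← mul_inv_rev]; exact B.inv_mem ha.2.1, fun x => ?_⟩
        rw [show ⁅a⁻¹, x⁆ = a⁻¹ * ⁅a, x⁆⁻¹ * a⁻¹⁻¹ by simp only [commutatorElement_def]; group]
        exact R.normal.conj_mem _ (B.inv_mem (ha.2.2 x)) _ }
  have hDn : D.Normal := by
    constructor
    intro a ha g
    refine ⟨(inferInstance : C.Normal).conj_mem a ha.1 g, ?_, fun x => ?_⟩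
    · rw [show g * a * g⁻¹ * (g * a * g⁻¹) = g * (a * a) * g⁻¹ by group]
      exact R.normal.conj_mem _ ha.2.1 g
    · rw [show ⁅g * a * g⁻¹, x⁆ = g * ⁅a, g⁻¹ * x * g⁆ * g⁻¹ by
        simp only [commutatorElement_def]; group]
      exact R.normal.conj_mem _ (ha.2.2 _) g
  have hDi : Invar A D := by
    intro ψ hψ a ha
    refine ⟨centralizer_invar R.invar ψ hψ a ha.1,
      by rw [← map_mul]; exact R.invar ψ hψ _ ha.2.1, fun x => ?_⟩
    have h := R.invar ψ hψ _ (ha.2.2 (ψ.symm x))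
    simpa [map_commutatorElement] using h
  have hBD : B ≤ D := fun b hb => ⟨Subgroup.mem_centralizer_iff.mpr fun c hc => R.comm c hc b hb,
    B.mul_mem hb hb, fun x => by
      rw [show ⁅b, x⁆ = b * (x * b⁻¹ * x⁻¹) by simp only [commutatorElement_def]; group]
      exact B.mul_mem hb (R.normal.conj_mem _ (B.inv_mem hb) x)⟩
  -- the map `d ↦ (d²)^(2^(m-1))`
  let t : X → X := fun d => (d * d) ^ 2 ^ (m - 1)
  have hker : ∀ d ∈ D, t d = 1 → d ∈ B := by
    intro d hd h
    obtain ⟨r, hr, hdr⟩ := R.exists_sq E hd.2.1 h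
    have hdr' : r * d = d * r := hCc d hd.1 r hr
    have hrd : d * r⁻¹ = r⁻¹ * d :=
      ((Commute.inv_left (show Commute r d from hdr'))).eq.symm
    have he2 : d * r⁻¹ * (d * r⁻¹) = 1 := by
      rw [sq_mul hrd, hdr, ← mul_inv_rev, mul_inv_cancel]
    have heD : d * r⁻¹ ∈ D := D.mul_mem hd (hBD (B.inv_mem hr))
    have he : d * r⁻¹ ∈ zOne X := by
      refine R.setup.mem_zOne_of_commutator R.card4 he2 fun x => ?_
      have hb1 : x * (d * r⁻¹) * x⁻¹ * (d * r⁻¹) ∈ B := by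
        have h1 := heD.2.2 x
        rw [commutatorElement_def] at h1
        generalize d * r⁻¹ = e at he2 h1 ⊢
        rw [inv_eq_self he2] at h1
        rw [show x * e * x⁻¹ * e = (e⁻¹ * x * e⁻¹ * x⁻¹)⁻¹ by group, inv_eq_self he2]
        exact B.inv_mem h1
      set e := d * r⁻¹ with he'
      set β := x * e * x⁻¹ * e with hβ
      have hcomm : β * e = e * β := hCc e heD.1 β hb1
      refine R.involution hb1 ?_
      calc β * β = β * x * e * x⁻¹ * e := by rw [hβ]; group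
        _ = (x * e * x⁻¹) * e * (x * e * x⁻¹ * e) := by rw [hβ]; group
        _ = (x * e * x⁻¹) * (e * β) := by rw [hβ]; group
        _ = (x * e * x⁻¹) * (β * e) := by rw [hcomm]
        _ = x * (e * e) * x⁻¹ * (e * e) := by rw [hβ]; group
        _ = 1 := by rw [he2]; group
    have := B.mul_mem (R.zOne_le he) hr
    rwa [inv_mul_cancel_right] at this
  have hcomm2 : ∀ a ∈ D, ∀ b ∈ D, ⁅a, b⁆ ∈ zOne X := by
    intro a ha b hb
    refine R.involution (ha.2.2 b) ?_
    have h1 : ⁅a * a, b⁆ = 1 := commutatorElement_eq_one_iff_mul_comm.mpr (hCc b hb.1 _ ha.2.1)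
    rw [show ⁅a * a, b⁆ = a * ⁅a, b⁆ * a⁻¹ * ⁅a, b⁆ by
      simp only [commutatorElement_def]; group, (hCc a ha.1 _ (ha.2.2 b)).symm,
      mul_inv_cancel_right] at h1
    exact h1
  have htop1 : ∀ z ∈ zOne X, z ^ 2 ^ (m - 1) = 1 := by
    intro z hz
    rw [show m - 1 = (m - 2) + 1 by omega, pow_succ', pow_mul, pow_two, hz.2, one_pow]
  have hmul : ∀ a ∈ D, ∀ b ∈ D, t (a * b) = t a * t b := by
    intro a ha b hb
    show (a * b * (a * b)) ^ 2 ^ (m - 1) = _
    have hc := hcomm2 b hb a ha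
    rw [show a * b * (a * b) = a * ⁅b, a⁆ * a⁻¹ * (a * a * (b * b)) by
        simp only [commutatorElement_def]; group, zOne_comm hc a, mul_inv_cancel_right,
      R.top_mul E (R.zOne_le hc) (B.mul_mem ha.2.1 hb.2.1), htop1 _ hc, one_mul,
      R.top_mul E ha.2.1 hb.2.1]
  have hsame : ∀ a ∈ D, ∀ b ∈ D, t a = t b → a⁻¹ * b ∈ B := by
    intro a ha b hb h
    have h1 := hmul a ha (a⁻¹ * b) (D.mul_mem (D.inv_mem ha) hb)
    rw [mul_inv_cancel_left, h] at h1
    exact hker _ (D.mul_mem (D.inv_mem ha) hb) (left_eq_mul.mp h1)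
  have hswap : ∀ a ∈ D, ∀ b ∈ D, ∀ c ∈ D, a * b = b * a → b⁻¹ * c ∈ B → a * c = c * a := by
    intro a ha b _ c _ hab hbc
    calc a * c = a * b * (b⁻¹ * c) := by group
      _ = b * (a * (b⁻¹ * c)) := by rw [hab]; group
      _ = b * (b⁻¹ * c * a) := by rw [hCc a ha.1 _ hbc]
      _ = c * a := by group
  have htmap : ∀ d : X, t (φ d) = φ (t d) := fun d => by simp [t, map_pow, map_mul]
  have hbase : ∀ d ∈ D, d * φ d = φ d * d := by
    intro d hd
    have hv : t d ∈ zOne X := R.top_mem E hd.2.1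
    have hd1 := hDi φ R.mem d hd
    have hd2 := hDi φ R.mem _ hd1
    have hc := hcomm2 d hd (φ d) hd1
    rw [← commutatorElement_eq_one_iff_mul_comm]
    refine R.fpf _ hc ?_
    rw [map_commutatorElement]
    have h1 : (d * φ d)⁻¹ * φ (φ d) ∈ B := hsame _ (D.mul_mem hd hd1) _ hd2 (by
      rw [hmul d hd _ hd1, htmap, htmap, htmap, R.rot hv])
    have h2 : ⁅φ d, φ (φ d)⁆ = ⁅φ d, d * φ d⁆ := by
      conv_lhs => rw [show φ (φ d) = d * φ d * ((d * φ d)⁻¹ * φ (φ d)) by group]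
      generalize hβ : (d * φ d)⁻¹ * φ (φ d) = β at h1 ⊢
      have h3 := hCc _ hd1.1 β h1
      calc ⁅φ d, d * φ d * β⁆ = φ d * (d * φ d) * (β * (φ d)⁻¹ * β⁻¹) * (d * φ d)⁻¹ := by
            simp only [commutatorElement_def]; group
        _ = _ := by
          rw [(Commute.inv_right (show Commute β (φ d) from h3)).eq, mul_inv_cancel_right]
          simp only [commutatorElement_def]
    rw [h2, show ⁅φ d, d * φ d⁆ = ⁅φ d, d⁆ by simp only [commutatorElement_def]; group,
      ← commutatorElement_inv, inv_eq_self hc.2]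
  have hDab : ∀ a ∈ D, ∀ b ∈ D, a * b = b * a := by
    intro a ha b hb
    by_cases ha1 : t a = 1
    · exact hCc b hb.1 a (hker a ha ha1)
    rcases R.orbit (R.top_mem E ha.2.1) (R.top_mem E hb.2.1) ha1 with h | h | h | h
    · exact (hCc a ha.1 b (hker b hb h)).symm
    · exact hswap a ha a ha b hb rfl (hsame a ha b hb h.symm)
    · exact hswap a ha (φ a) (hDi φ R.mem a ha) b hb (hbase a ha)
        (hsame _ (hDi φ R.mem a ha) b hb ((htmap a).trans h.symm))
    · have h' : t (φ b) = t a := by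
        rw [htmap]
        show φ ((b * b) ^ 2 ^ (m - 1)) = _
        rw [h, R.cube (R.top_mem E ha.2.1)]
      exact (hswap b hb (φ b) (hDi φ R.mem b hb) a ha (hbase b hb)
        (hsame _ (hDi φ R.mem b hb) a ha h')).symm
  by_contra hne
  obtain ⟨d, hdC, hdB, hd2, hdc⟩ := exists_two_central R.setup.pTwo B C R.normal inferInstance hne
  exact hdB (R.maximal D hDn hDi hDab hBD ⟨hdC, hd2, hdc⟩)

omit R E in
theorem two_pow_succ_sub {m : ℕ} (hm : 2 ≤ m) : 2 ^ (m - 1) = 2 * 2 ^ (m - 2) := by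
  rw [← pow_succ', show m - 2 + 1 = m - 1 by omega]

/-- The pairing `(dlt x b)^(2^(m-2))`. -/
def ev (_R : Frame A φ B) (_E : Expo B m) (x b : X) : X := dlt x b ^ 2 ^ (m - 2)

theorem ev_mem (x : X) {b : X} (hb : b ∈ B) : R.ev E x b ∈ zOne X := by
  refine R.involution (B.pow_mem (R.dlt_mem x hb) _) ?_
  rw [ev, ← pow_two, ← pow_mul, mul_comm, ← two_pow_succ_sub E.two_le]
  exact R.top_dlt E x hb

theorem ev_mul_right (x : X) {b c : X} (hb : b ∈ B) (hc : c ∈ B) :
    R.ev E x (b * c) = R.ev E x b * R.ev E x c := by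
  rw [ev, R.dlt_mul_right x hb hc,
    Commute.mul_pow (R.comm _ (R.dlt_mem x hb) _ (R.dlt_mem x hc))]
  rfl

theorem ev_sq (x : X) {d : X} (hd : d ∈ B) : R.ev E x (d * d) = 1 := by
  rw [R.ev_mul_right E x hd hd]
  exact (R.ev_mem E x hd).2

theorem ev_congr (x : X) {b c : X} (hb : b ∈ B) (hc : c ∈ B)
    (h : b ^ 2 ^ (m - 1) = c ^ 2 ^ (m - 1)) : R.ev E x b = R.ev E x c := by
  have hcb : c⁻¹ * b ∈ B := B.mul_mem (B.inv_mem hc) hb
  obtain ⟨d, hd, hd'⟩ := R.exists_sq E hcb (by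
    rw [R.top_mul E (B.inv_mem hc) hb, inv_pow, h, inv_mul_cancel])
  calc R.ev E x b = R.ev E x (c * (c⁻¹ * b)) := by rw [mul_inv_cancel_left]
    _ = R.ev E x c := by rw [R.ev_mul_right E x hc hcb, hd', R.ev_sq E x hd, mul_one]

theorem ev_mul_left (x y : X) {b : X} (hb : b ∈ B) :
    R.ev E (x * y) b = R.ev E x b * R.ev E y b := by
  have hx := R.dlt_mem x hb
  have hy := R.dlt_mem y hb
  have hxy := R.dlt_mem x hy
  have h1 : R.ev E x (dlt y b) = 1 := by
    rw [R.ev_congr E x hy B.one_mem (by rw [R.top_dlt E y hb, one_pow]), ev,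
      show dlt x (1 : X) = 1 from dlt_central (one_mem _), one_pow]
  rw [ev, R.dlt_mul_left x y hb, Commute.mul_pow (R.comm _ (B.mul_mem hx hy) _ hxy),
    Commute.mul_pow (R.comm _ hx _ hy)]
  show R.ev E x b * R.ev E y b * R.ev E x (dlt y b) = _
  rw [h1, mul_one]

theorem ev_map {ψ : MulAut X} (x b : X) : R.ev E (ψ x) (ψ b) = ψ (R.ev E x b) := by
  rw [ev, ev, dlt_map, map_pow]

theorem ev_of_mem {x b : X} (hx : x ∈ B) (hb : b ∈ B) : R.ev E x b = 1 := by
  rw [ev, R.dlt_of_mem hx hb, one_pow]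

theorem twist {ψ : MulAut X} (hψ : ψ ∈ A) (χ : X → X) (hχ : ∀ z ∈ zOne X, ψ z = χ z) (x : X)
    {c c' : X} (hc : c ∈ B) (hc' : c' ∈ B) (h : χ (c' ^ 2 ^ (m - 1)) = c ^ 2 ^ (m - 1)) :
    R.ev E (ψ x) c = χ (R.ev E x c') := by
  rw [← hχ _ (R.ev_mem E x hc'), ← R.ev_map E (ψ := ψ)]
  refine R.ev_congr E (ψ x) hc (R.invar ψ hψ c' hc') ?_
  rw [← map_pow, hχ _ (R.top_mem E hc'), h]

/-- No `ev E x` has rank one. -/
theorem ev_rank {x b : X} (hb : b ∈ B) (hb1 : b ^ 2 ^ (m - 1) ≠ 1) (h : R.ev E x b = 1) :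
    ∀ c ∈ B, R.ev E x c = 1 := by
  have hb' := R.invar φ R.mem b hb
  have hb'' := R.invar φ R.mem _ hb'
  have hv := R.top_mem E hb
  have hs0 : ∀ g, R.ev E g b ∈ zOne X := fun g => R.ev_mem E g hb
  have hs1 : ∀ g, R.ev E g (φ b) ∈ zOne X := fun g => R.ev_mem E g hb'
  have hs2 : ∀ g, R.ev E g (φ (φ b)) ∈ zOne X := fun g => R.ev_mem E g hb''
  have hz1 : ∀ {z}, z ∈ zOne X → φ z ∈ zOne X := fun hz => R.inv_mem_zOne hz
  let f : X →* zOne X :=
    { toFun := fun g => ⟨R.ev E g b, hs0 g⟩ * ⟨_, hz1 (hs2 g)⟩ * ⟨_, hz1 (hz1 (hs1 g))⟩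
      map_one' := by
        apply Subtype.ext
        show R.ev E 1 b * φ (R.ev E 1 (φ (φ b))) * φ (φ (R.ev E 1 (φ b))) = 1
        rw [R.ev_of_mem E B.one_mem hb, R.ev_of_mem E B.one_mem hb',
          R.ev_of_mem E B.one_mem hb'']
        simp
      map_mul' := fun g g' => by
        apply Subtype.ext
        show R.ev E (g * g') b * φ (R.ev E (g * g') (φ (φ b))) * φ (φ (R.ev E (g * g') (φ b))) =
          R.ev E g b * φ (R.ev E g (φ (φ b))) * φ (φ (R.ev E g (φ b))) *
            (R.ev E g' b * φ (R.ev E g' (φ (φ b))) * φ (φ (R.ev E g' (φ b))))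
        rw [R.ev_mul_left E g g' hb, R.ev_mul_left E g g' hb', R.ev_mul_left E g g' hb'',
          map_mul, map_mul, map_mul]
        have key : ∀ a a' c c' d d' : zOne X, a * a' * (c * c') * (d * d') =
            a * c * d * (a' * c' * d') := by
          letI : CommGroup (zOne X) := { (inferInstance : Group (zOne X)) with
            mul_comm := fun u v => Subtype.ext (zOne_comm v.2 u) }
          intro a a' c c' d d'
          rw [mul_mul_mul_comm a a' c c', mul_mul_mul_comm (a * c) (a' * c') d d']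
        exact congrArg Subtype.val (key ⟨_, hs0 g⟩ ⟨_, hs0 g'⟩ ⟨_, hz1 (hs2 g)⟩ ⟨_, hz1 (hs2 g')⟩
          ⟨_, hz1 (hz1 (hs1 g))⟩ ⟨_, hz1 (hz1 (hs1 g'))⟩) }
  have hf : ∀ ψ ∈ A, ∀ g, f (ψ g) = f g := by
    intro ψ hψ g
    apply Subtype.ext
    show R.ev E (ψ g) b * φ (R.ev E (ψ g) (φ (φ b))) * φ (φ (R.ev E (ψ g) (φ b))) =
      R.ev E g b * φ (R.ev E g (φ (φ b))) * φ (φ (R.ev E g (φ b)))
    have hv1 := hz1 hv
    have hv2 := hz1 hv1
    have perm : ∀ p q r : X, p ∈ zOne X → q ∈ zOne X → r ∈ zOne X →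
        q * r * p = p * q * r := by
      intro p q r hp _ _
      rw [zOne_comm hp (q * r), mul_assoc p q r]
    rcases R.action hψ with hχ | hχ | hχ
    · rw [R.twist E hψ id hχ g hb hb rfl, R.twist E hψ id hχ g hb' hb' rfl,
        R.twist E hψ id hχ g hb'' hb'' rfl]
      rfl
    · have e0 : φ ((φ (φ b)) ^ 2 ^ (m - 1)) = b ^ 2 ^ (m - 1) := by
        rw [← map_pow φ, ← map_pow φ]; exact R.cube hv
      rw [R.twist E hψ φ hχ g hb hb'' e0,
        R.twist E hψ φ hχ g hb' hb (map_pow _ _ _),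
        R.twist E hψ φ hχ g hb'' hb' (map_pow _ _ _), R.cube (hs0 g)]
      exact perm _ _ _ (hs0 g) (hz1 (hs2 g)) (hz1 (hz1 (hs1 g)))
    · have e0 : φ (φ ((φ b) ^ 2 ^ (m - 1))) = b ^ 2 ^ (m - 1) := by
        rw [← map_pow φ]; exact R.cube hv
      have e1 : φ (φ ((φ (φ b)) ^ 2 ^ (m - 1))) = (φ b) ^ 2 ^ (m - 1) := by
        rw [← map_pow φ, ← map_pow φ, R.cube hv1]
      have e2 : φ (φ (b ^ 2 ^ (m - 1))) = (φ (φ b)) ^ 2 ^ (m - 1) := by
        rw [map_pow φ, map_pow φ]
      rw [R.twist E hψ (fun z => φ (φ z)) hχ g hb hb' e0,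
        R.twist E hψ (fun z => φ (φ z)) hχ g hb' hb'' e1,
        R.twist E hψ (fun z => φ (φ z)) hχ g hb'' hb e2]
      show φ (φ (R.ev E g (φ b))) * φ (φ (φ (R.ev E g b))) *
        φ (φ (φ (φ (R.ev E g (φ (φ b)))))) = _
      rw [R.cube (hs0 g), R.cube (hz1 (hs2 g))]
      exact (perm _ _ _ (hz1 (hz1 (hs1 g))) (hs0 g) (hz1 (hs2 g))).symm
  have h1 : R.ev E x b * φ (R.ev E x (φ (φ b))) * φ (φ (R.ev E x (φ b))) = 1 :=
    congrArg Subtype.val (R.setup.eq_one_of_hom f hf x)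
  have h2 : R.ev E x (φ (φ b)) = R.ev E x (φ b) := by
    rw [R.ev_congr E x hb'' (B.mul_mem hb hb') (by
      rw [R.top_mul E hb hb', ← map_pow φ, ← map_pow φ, R.rot hv]),
      R.ev_mul_right E x hb hb', h, one_mul]
  have hw : R.ev E x (φ b) = 1 := by
    rw [h, h2, one_mul, R.rot (hs1 x), zOne_comm (hz1 (hs1 x)), ← mul_assoc,
      (hz1 (hs1 x)).2, one_mul] at h1
    exact h1
  intro c hc
  rcases R.orbit hv (R.top_mem E hc) hb1 with hh | hh | hh | hh
  · rw [R.ev_congr E x hc B.one_mem (by rw [hh, one_pow]), ev,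
      show dlt x (1 : X) = 1 from dlt_central (one_mem _), one_pow]
  · rw [R.ev_congr E x hc hb hh, h]
  · rw [R.ev_congr E x hc hb' (by rw [hh, map_pow]), hw]
  · rw [R.ev_congr E x hc hb'' (by rw [hh, map_pow, map_pow]), h2, hw]

theorem mem_of_dlt_one {x : X} (h : ∀ b ∈ B, dlt x b = 1) : x ∈ B :=
  R.centralizer_le E (Subgroup.mem_centralizer_iff.mpr fun b hb =>
    (dlt_eq_one_iff.mp (h b hb)).symm)

theorem dlt_one (x : X) : dlt x (1 : X) = 1 := dlt_central (one_mem _)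

theorem ev_inj {x : X} (hx : ¬ ∀ c ∈ B, R.ev E x c = 1) {b : X} (hb : b ∈ B)
    (h : R.ev E x b = 1) : b ^ 2 ^ (m - 1) = 1 := by
  by_contra hb1
  exact hx (R.ev_rank E hb hb1 h)

theorem false_of_kernel_eq (h3 : 3 ≤ m) (hna : commutator X ≠ ⊥)
    (hU : ∀ x : X, (∀ b ∈ B, R.ev E x b = 1) → x ∈ B) : False := by
  classical
  have hsq : ∀ y : X, y * y ∈ B := fun y => hU _ fun b hb => by
    rw [R.ev_mul_left E y y hb]
    exact (R.ev_mem E y hb).2
  have hid : ∀ y : X, y ∉ B → ∀ b ∈ B, R.ev E y b = b ^ 2 ^ (m - 1) := by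
    intro y hy b hb
    have hny : ¬ ∀ c ∈ B, R.ev E y c = 1 := fun h => hy (hU y h)
    obtain ⟨d, hd, hdb⟩ := R.exists_sq E (R.dlt_mem y hb) (R.top_dlt E y hb)
    have h0 : dlt (y * y) b = 1 := R.dlt_of_mem (hsq y) hb
    rw [R.dlt_mul_left y y hb, hdb, R.dlt_mul_right y hd hd] at h0
    have hdd := R.dlt_mem y hd
    have hd4 := B.mul_mem (B.mul_mem hd hd) (B.mul_mem hd hd)
    have h1 := congrArg (fun t => t ^ 2 ^ (m - 3)) h0
    simp only [one_pow] at h1
    rw [Commute.mul_pow (R.comm _ hd4 _ (B.mul_mem hdd hdd))] at h1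
    have e1 : (d * d * (d * d)) ^ 2 ^ (m - 3) = d ^ 2 ^ (m - 1) := by
      rw [show d * d * (d * d) = d ^ 2 ^ 2 by simp [pow_succ, mul_assoc], ← pow_mul, ← pow_add,
        show 2 + (m - 3) = m - 1 by omega]
    have e2 : (dlt y d * dlt y d) ^ 2 ^ (m - 3) = R.ev E y d := by
      rw [ev, ← pow_two, ← pow_mul, ← pow_succ', show m - 3 + 1 = m - 2 by omega]
    rw [e1, e2] at h1
    have h2 : R.ev E y d = d ^ 2 ^ (m - 1) :=
      (eq_inv_of_mul_eq_one_right h1).trans (inv_eq_self (R.top_mem E hd).2)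
    have h3' : R.ev E y b = d ^ 2 ^ (m - 1) := by
      rw [ev, hdb, ← pow_two, ← pow_mul, ← two_pow_succ_sub E.two_le]
    have h4 : R.ev E y (d * b) = 1 := by
      rw [R.ev_mul_right E y hd hb, h2, h3', (R.top_mem E hd).2]
    have h5 := R.ev_inj E hny (B.mul_mem hd hb) h4
    rw [R.top_mul E hd hb] at h5
    rw [h3']
    exact ((eq_inv_of_mul_eq_one_right h5).trans (inv_eq_self (R.top_mem E hd).2)).symm
  obtain ⟨v, hv, hv1⟩ := R.frame_nontrivial_zOne
  obtain ⟨b0, hb0, hb0v⟩ := E.onto v hv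
  let f : X →* zOne X :=
    { toFun := fun x => ⟨R.ev E x b0, R.ev_mem E x hb0⟩
      map_one' := Subtype.ext (R.ev_of_mem E B.one_mem hb0)
      map_mul' := fun x x' => Subtype.ext (R.ev_mul_left E x x' hb0) }
  have hf : ∀ ψ ∈ A, ∀ x, f (ψ x) = f x := by
    intro ψ hψ x
    apply Subtype.ext
    show R.ev E (ψ x) b0 = R.ev E x b0
    by_cases hx : x ∈ B
    · rw [R.ev_of_mem E hx hb0, R.ev_of_mem E (R.invar ψ hψ x hx) hb0]
    · have hx' : ψ x ∉ B := fun h => hx (by simpa using R.invar ψ⁻¹ (A.inv_mem hψ) _ h)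
      rw [hid _ hx b0 hb0, hid _ hx' b0 hb0]
  have hall : ∀ x : X, x ∈ B := by
    intro x
    by_contra hx
    have h : R.ev E x b0 = 1 := congrArg Subtype.val (R.setup.eq_one_of_hom f hf x)
    rw [hid x hx b0 hb0, hb0v] at h
    exact hv1 h
  apply hna
  rw [commutator_def, eq_bot_iff, Subgroup.commutator_le]
  exact fun a _ b _ => Subgroup.mem_bot.mpr
    (commutatorElement_eq_one_iff_mul_comm.mpr (R.comm a (hall a) b (hall b)))

theorem false_of_kernel_ne (h3 : 3 ≤ m) {u : X} (hu : ∀ b ∈ B, R.ev E u b = 1) (huB : u ∉ B) :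
    False := by
  classical
  haveI := R.normal
  let U : Subgroup X :=
    { carrier := {x | ∀ b ∈ B, R.ev E x b = 1}
      one_mem' := fun b hb => R.ev_of_mem E B.one_mem hb
      mul_mem' := fun {a c} ha hc b hb => by rw [R.ev_mul_left E a c hb, ha b hb, hc b hb, one_mul]
      inv_mem' := fun {a} ha b hb => by
        have h := R.ev_mul_left E a a⁻¹ hb
        rw [mul_inv_cancel, R.ev_of_mem E B.one_mem hb, ha b hb, one_mul] at h
        exact h.symm }
  have hUn : U.Normal := by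
    constructor
    intro a ha g b hb
    have h := R.ev_mul_left E g g⁻¹ hb
    rw [mul_inv_cancel, R.ev_of_mem E B.one_mem hb] at h
    rw [R.ev_mul_left E (g * a) g⁻¹ hb, R.ev_mul_left E g a hb, ha b hb, mul_one]
    exact h.symm
  obtain ⟨y, hyU, hyB, hy2, -⟩ := exists_two_central R.setup.pTwo B U R.normal hUn
    (fun h => huB (h hu))
  have hdesc : ∀ c ∈ B, dlt y c * (c * c) = 1 → ∀ k, k + 2 ≤ m → c ^ 2 ^ k = 1 → c * c = 1 := by
    intro c hc hcy k
    induction k with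
    | zero => intro _ h; simp only [pow_zero, pow_one] at h; simp [h]
    | succ k ih =>
      intro hk h
      rcases Nat.eq_zero_or_pos k with rfl | hk0
      · rwa [zero_add, pow_one, pow_two] at h
      refine ih (by omega) ?_
      obtain ⟨d, hd, hd'⟩ := R.exists_root E (k + 1) (m - (k + 1)) (by omega) c hc h
      have h1 : dlt y c ^ 2 ^ (k - 1) = 1 := by
        rw [hd', R.dlt_pow y hd, ← pow_mul, ← pow_add,
          show m - (k + 1) + (k - 1) = m - 2 by omega]
        exact hyU d hd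
      have h2 := congrArg (fun t => t ^ 2 ^ (k - 1)) hcy
      simp only [one_pow] at h2
      rw [Commute.mul_pow (R.comm _ (R.dlt_mem y hc) _ (B.mul_mem hc hc)), h1, one_mul, ← pow_two,
        ← pow_mul, ← pow_succ', show k - 1 + 1 = k by omega] at h2
      exact h2
  have hQy : ∀ b ∈ B, dlt y b ∈ zOne X := by
    intro b hb
    refine R.involution (R.dlt_mem y hb) (hdesc _ (R.dlt_mem y hb) ?_ (m - 2) (by omega) (hyU b hb))
    have h := R.dlt_mul_left y y hb
    rw [R.dlt_of_mem hy2 hb] at h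
    rw [R.comm _ (R.dlt_mem y (R.dlt_mem y hb)) _ (B.mul_mem (R.dlt_mem y hb) (R.dlt_mem y hb)),
      ← h]
  have hcongr : ∀ g : X, (∀ b ∈ B, dlt g b ∈ zOne X) → ∀ b ∈ B, ∀ c ∈ B,
      b ^ 2 ^ (m - 1) = c ^ 2 ^ (m - 1) → dlt g b = dlt g c := by
    intro g hg b hb c hc h
    have hcb : c⁻¹ * b ∈ B := B.mul_mem (B.inv_mem hc) hb
    obtain ⟨d, hd, hd'⟩ := R.exists_sq E hcb (by
      rw [R.top_mul E (B.inv_mem hc) hb, inv_pow, h, inv_mul_cancel])
    calc dlt g b = dlt g (c * (c⁻¹ * b)) := by rw [mul_inv_cancel_left]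
      _ = dlt g c := by rw [R.dlt_mul_right g hc hcb, hd', R.dlt_mul_right g hd hd,
          (hg d hd).2, mul_one]
  have hg : ∃ g : X, g ∉ B ∧ (∀ b ∈ B, dlt g b ∈ zOne X) ∧
      ∀ b ∈ B, dlt g b = 1 → b ^ 2 ^ (m - 1) = 1 := by
    by_cases hin : ∀ b ∈ B, dlt y b = 1 → b ^ 2 ^ (m - 1) = 1
    · exact ⟨y, hyB, hQy, hin⟩
    push Not at hin
    obtain ⟨b, hb, hb1, hbv⟩ := hin
    have hb' := R.invar φ R.mem b hb
    have hb'' := R.invar φ R.mem _ hb'
    have hv := R.top_mem E hb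
    have h2 : dlt y (φ (φ b)) = dlt y (φ b) := by
      rw [hcongr y hQy _ hb'' _ (B.mul_mem hb hb') (by
        rw [R.top_mul E hb hb', ← map_pow φ, ← map_pow φ, R.rot hv]),
        R.dlt_mul_right y hb hb', hb1, one_mul]
    set w := dlt y (φ b) with hw
    have hwz : w ∈ zOne X := hQy _ hb'
    have hw1 : w ≠ 1 := by
      intro h
      refine hyB (R.mem_of_dlt_one E fun c hc => ?_)
      rcases R.orbit hv (R.top_mem E hc) hbv with hh | hh | hh | hh
      · rw [hcongr y hQy c hc 1 B.one_mem (by rw [hh, one_pow]), R.dlt_one E]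
      · rw [hcongr y hQy c hc b hb hh, hb1]
      · rw [hcongr y hQy c hc _ hb' (by rw [hh, map_pow]), ← hw, h]
      · rw [hcongr y hQy c hc _ hb'' (by rw [hh, map_pow, map_pow]), h2, h]
    have hQy' : ∀ c ∈ B, dlt (φ y) c ∈ zOne X := by
      intro c hc
      have hc' : φ⁻¹ c ∈ B := R.invar _ (A.inv_mem R.mem) c hc
      have h := R.inv_mem_zOne (hQy _ hc')
      rwa [← dlt_map, MulAut.apply_inv_self] at h
    have hmul : ∀ c ∈ B, dlt (y * φ y) c = dlt y c * dlt (φ y) c := by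
      intro c hc
      rw [R.dlt_mul_left y (φ y) hc, dlt_central (zOne_le_center (hQy' c hc)), mul_one]
    have e0 : dlt (φ y) b = φ w := by
      rw [← h2, ← dlt_map]
      exact hcongr _ hQy' _ hb _ (R.invar φ R.mem _ hb'') (by
        rw [← map_pow φ, ← map_pow φ, ← map_pow φ, R.cube hv])
    have e1 : dlt (φ y) (φ b) = 1 := by rw [dlt_map, hb1, map_one]
    have e2 : dlt (φ y) (φ (φ b)) = φ w := by rw [dlt_map, hw]
    have g0 : dlt (y * φ y) b = φ w := by rw [hmul b hb, hb1, e0, one_mul]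
    have g1 : dlt (y * φ y) (φ b) = w := by rw [hmul _ hb', e1, mul_one]
    have g2 : dlt (y * φ y) (φ (φ b)) = φ (φ w) := by rw [hmul _ hb'', e2, h2, R.rot hwz]
    have hQg : ∀ c ∈ B, dlt (y * φ y) c ∈ zOne X := fun c hc => by
      rw [hmul c hc]; exact mul_mem (hQy c hc) (hQy' c hc)
    refine ⟨y * φ y, fun h => hw1 ?_, hQg, fun c hc hc1 => ?_⟩
    · rw [← g1]; exact R.dlt_of_mem h hb'
    rcases R.orbit hv (R.top_mem E hc) hbv with hh | hh | hh | hh
    · exact hh
    · rw [hcongr _ hQg c hc b hb hh, g0] at hc1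
      exact absurd hc1 (R.ne_one hw1)
    · rw [hcongr _ hQg c hc _ hb' (by rw [hh, map_pow]), g1] at hc1
      exact absurd hc1 hw1
    · rw [hcongr _ hQg c hc _ hb'' (by rw [hh, map_pow, map_pow]), g2] at hc1
      exact absurd hc1 (R.ne_one (R.ne_one hw1))
  obtain ⟨g, hgB, hQ, hinj⟩ := hg
  have hgg : g * g ∈ B := R.mem_of_dlt_one E fun b hb => by
    rw [R.dlt_mul_left g g hb, (hQ b hb).2, dlt_central (zOne_le_center (hQ b hb)), one_mul]
  obtain ⟨r, hr, hrg⟩ := R.exists_sq E hgg (hinj _ hgg (dlt_eq_one_iff.mpr (mul_assoc g g g).symm))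
  have hri := B.inv_mem hr
  obtain ⟨t, ht, htz⟩ := E.onto _ (hQ r⁻¹ hri)
  set s := t ^ 2 ^ (m - 2) with hs
  have hsB : s ∈ B := B.pow_mem ht _
  have hs1 : dlt g s = 1 := by
    rw [hs, R.dlt_pow g ht, show m - 2 = (m - 3) + 1 by omega, pow_succ', pow_mul, pow_two,
      (hQ t ht).2, one_pow]
  have hss : s * s = dlt g r⁻¹ := by
    rw [hs, ← pow_two, ← pow_mul, mul_comm, ← two_pow_succ_sub E.two_le, htz]
  set b := r⁻¹ * s with hbdef
  have hb : b ∈ B := B.mul_mem hri hsB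
  have hbs : b * b * dlt g b = r⁻¹ * r⁻¹ := by
    rw [hbdef, R.dlt_mul_right g hri hsB, hs1, mul_one, sq_mul (R.comm _ hri _ hsB), hss,
      mul_assoc, (hQ _ hri).2, mul_one]
  set e := b * g with he
  have he2 : e * e = 1 := by
    rw [he, show b * g * (b * g) = b * b * dlt g b * (g * g) by simp only [dlt]; group, hbs, hrg]
    group
  have heB : e ∉ B := fun h => hgB (by
    have := B.mul_mem (B.inv_mem hb) h
    rwa [he, inv_mul_cancel_left] at this)
  refine heB (R.zOne_le (R.setup.mem_zOne_of_commutator R.card4 he2 fun x => ?_))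
  have hgx : x * g * x⁻¹ * g⁻¹ ∈ B := by
    have h1 : ∀ c ∈ B, dlt (x * g * x⁻¹) c = dlt g c := by
      intro c hc
      have hc' : x⁻¹ * c * x ∈ B := by
        simpa using R.normal.conj_mem c hc x⁻¹
      have h2 : dlt g (x⁻¹ * c * x) = dlt g c := by
        refine hcongr g hQ _ hc' _ hc ?_
        have h3 := zOne_comm (R.top_mem E hc) x
        have h4 := conj_pow (i := 2 ^ (m - 1)) (a := x⁻¹) (b := c)
        rw [inv_inv] at h4
        rw [h4, mul_assoc, ← h3, inv_mul_cancel_left]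
      calc dlt (x * g * x⁻¹) c
          = x * dlt g (x⁻¹ * c * x) * x⁻¹ := by simp only [dlt]; group
        _ = dlt g c := by rw [h2, zOne_comm (hQ c hc) x, mul_inv_cancel_right]
    have h5 : (x * g * x⁻¹) * g⁻¹ ∈ B := by
      refine R.mem_of_dlt_one E fun c hc => ?_
      have hc' : g⁻¹ * c * g ∈ B := by
        simpa using R.normal.conj_mem c hc g⁻¹
      have h6 := h1 _ hc'
      simp only [dlt] at h6 ⊢
      have h7 : x * g * x⁻¹ * (g⁻¹ * c * g) * (x * g * x⁻¹)⁻¹ = c := by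
        have h8 := mul_left_cancel h6
        rw [h8]; group
      rw [show x * g * x⁻¹ * g⁻¹ * c * (x * g * x⁻¹ * g⁻¹)⁻¹ =
        x * g * x⁻¹ * (g⁻¹ * c * g) * (x * g * x⁻¹)⁻¹ by group, h7, inv_mul_cancel]
    exact h5
  set β := x * e * x⁻¹ * e with hβ
  have hβB : β ∈ B := by
    have h1 : β = (x * b * x⁻¹) * (x * g * x⁻¹ * g⁻¹) * b⁻¹ := by
      rw [hβ, show x * e * x⁻¹ * e = x * e * x⁻¹ * e⁻¹ by rw [inv_eq_self he2], he]
      group
    rw [h1]
    exact B.mul_mem (B.mul_mem (R.normal.conj_mem b hb x) hgx) (B.inv_mem hb)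
  have h1 : β * e * (β * e) = 1 := by
    rw [show β * e = x * e * x⁻¹ * (e * e) by rw [hβ]; group, he2, mul_one,
      show x * e * x⁻¹ * (x * e * x⁻¹) = x * (e * e) * x⁻¹ by group, he2]
    group
  have h2 : β * (β * dlt g β) = 1 := by
    have hge : e * β * e⁻¹ = β * dlt g β := by
      calc e * β * e⁻¹ = b * (β * dlt g β) * b⁻¹ := by rw [he]; simp only [dlt]; group
        _ = _ := by
          rw [R.comm b hb _ (B.mul_mem hβB (R.dlt_mem g hβB)), mul_inv_cancel_right]
    rw [← hge, inv_eq_self he2, show β * (e * β * e) = β * e * (β * e) by group, h1]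
  have h3' : β * β = dlt g β := by
    rw [← mul_assoc] at h2
    exact (eq_inv_of_mul_eq_one_left h2).trans (inv_eq_self (hQ β hβB).2)
  have h4 : β ^ 2 ^ (m - 1) = 1 := by
    rw [show m - 1 = m - 3 + 1 + 1 by omega, pow_succ', pow_mul, pow_two, h3', pow_succ', pow_mul,
      pow_two, (hQ β hβB).2, one_pow]
  obtain ⟨d, hd, hd'⟩ := R.exists_sq E hβB h4
  refine R.involution hβB ?_
  rw [h3', hd', R.dlt_mul_right g hd hd, (hQ d hd).2]

theorem final_big (hna : commutator X ≠ ⊥) :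
    (∀ x : X, x * x ∈ zOne X) ∧ Subgroup.center X ≤ zOne X := by
  classical
  have hm2 : m = 2 := by
    by_contra hne
    have h3 : 3 ≤ m := by have := E.two_le; omega
    by_cases hU : ∀ x : X, (∀ b ∈ B, R.ev E x b = 1) → x ∈ B
    · exact R.false_of_kernel_eq E h3 hna hU
    · push Not at hU
      obtain ⟨u, hu, huB⟩ := hU
      exact R.false_of_kernel_ne E h3 hu huB
  subst hm2
  have hev : ∀ x b : X, R.ev E x b = dlt x b := fun x b => by rw [ev]; simp
  have htop : ∀ b : X, b ^ 2 ^ (2 - 1) = b * b := fun b => by simp [pow_two]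
  have hinj : ∀ x : X, x ∉ B → ∀ b ∈ B, dlt x b = 1 → b * b = 1 := by
    intro x hx b hb h
    rw [← htop]
    exact R.ev_inj E (fun hall => hx (R.mem_of_dlt_one E fun c hc => by
      rw [← hev]; exact hall c hc)) hb (by rw [hev, h])
  have hBsq : ∀ b ∈ B, b * b ∈ zOne X := fun b hb => htop b ▸ R.top_mem E hb
  refine ⟨fun x => ?_, fun z hz => ?_⟩
  · by_cases hx : x ∈ B
    · exact hBsq x hx
    have hxx : x * x ∈ B := R.mem_of_dlt_one E fun b hb => by
      rw [← hev, R.ev_mul_left E x x hb]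
      exact (R.ev_mem E x hb).2
    exact R.involution hxx (hinj x hx _ hxx (dlt_eq_one_iff.mpr (mul_assoc x x x).symm))
  · obtain ⟨x, hx⟩ : ∃ x : X, x ∉ B := by
      by_contra hall
      push Not at hall
      apply hna
      rw [commutator_def, eq_bot_iff, Subgroup.commutator_le]
      exact fun a _ b _ => Subgroup.mem_bot.mpr
        (commutatorElement_eq_one_iff_mul_comm.mpr (R.comm a (hall a) b (hall b)))
    exact R.involution (R.center_le hz) (hinj x hx z (R.center_le hz) (dlt_central hz))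

end Frame

/-- The case in which `A` moves a central involution. -/
theorem Setup.final_moved (S : Setup A) (hna : commutator X ≠ ⊥) {φ : MulAut X} (hφ : φ ∈ A)
    {z : X} (hz : z ∈ zOne X) (hne : φ z ≠ z) : Final X := by
  classical
  have hz1 : z ≠ 1 := by rintro rfl; simp at hne
  have h4 : Nat.card (zOne X) = 4 := by
    have hle := S.card_zOne_le
    obtain ⟨k, hk⟩ := exists_two_pow_card S.pTwo (zOne X)
    have h3 : 2 < Nat.card (zOne X) := by
      have hsub : ({1, z, φ z} : Set X) ⊆ (zOne X : Set X) := by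
        intro t ht
        simp only [Set.mem_insert_iff, Set.mem_singleton_iff] at ht
        rcases ht with rfl | rfl | rfl
        · exact one_mem _
        · exact hz
        · exact zOne_invar A φ hφ z hz
      have h1 : φ z ≠ 1 := fun h => hz1 (φ.injective (h.trans (map_one φ).symm))
      have := Set.ncard_le_ncard hsub
      rw [Set.ncard_insert_of_notMem (by simp [hz1.symm, h1.symm]),
        Set.ncard_insert_of_notMem (by simp [hne.symm]), Set.ncard_singleton,
        ← Nat.card_coe_set_eq] at this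
      exact this
    rw [hk] at hle h3 ⊢
    have h5 : k ≤ 2 := (Nat.pow_le_pow_iff_right (a := 2) (by norm_num)).mp
      (show 2 ^ k ≤ 2 ^ 2 by simpa using hle)
    interval_cases k <;> omega
  have hfpf : ∀ w ∈ zOne X, φ w = w → w = 1 := fun w hw h => by
    by_contra hw1
    exact hne (S.fix_all h4 hφ hw hw1 h z hz)
  let P : Subgroup X → Prop := fun N => N.Normal ∧ Invar A N ∧
    (∀ a ∈ N, ∀ b ∈ N, a * b = b * a) ∧ Subgroup.center X ≤ N
  have hP : P (Subgroup.center X) := ⟨inferInstance, fun ψ _ a ha => by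
      rw [Subgroup.mem_center_iff] at ha ⊢
      intro g
      have h := congrArg ψ (ha (ψ.symm g))
      simpa using h, fun a _ b hb => Subgroup.mem_center_iff.mp hb a, le_rfl⟩
  obtain ⟨B, -, hB⟩ := Finite.exists_le_maximal hP
  have R : Frame A φ B :=
    { setup := S, mem := hφ, card4 := h4, fpf := hfpf, normal := hB.1.1, invar := hB.1.2.1
      comm := hB.1.2.2.1, center_le := hB.1.2.2.2
      maximal := fun N hn hi hab hle => hB.2 ⟨hn, hi, hab, hB.1.2.2.2.trans hle⟩ hle }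
  have key : (∀ x : X, x * x ∈ zOne X) ∧ Subgroup.center X ≤ zOne X := by
    by_cases hle : B ≤ zOne X
    · exact ⟨fun x => hle (R.sq_mem_small hle x), R.center_le.trans hle⟩
    · obtain ⟨m, E⟩ := R.exists_expo hle
      exact R.final_big E hna
  have hcomm : ∀ x y : X, ⁅x, y⁆ ∈ zOne X := fun x y => by
    rw [show ⁅x, y⁆ = x * x * (x⁻¹ * y * (x⁻¹ * y)) * (y * y)⁻¹ by
      simp only [commutatorElement_def]; group]
    exact mul_mem (mul_mem (key.1 _) (key.1 _)) (inv_mem (key.1 _))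
  have hcle : commutator X ≤ zOne X := by
    rw [commutator_def, Subgroup.commutator_le]
    exact fun x _ y _ => hcomm x y
  refine ⟨key.1, hcomm, key.2, fun w hw => ?_⟩
  obtain ⟨⟨v, hv⟩, hv'⟩ := Subgroup.ne_bot_iff_exists_ne_one.mp hna
  have hv1 : v ≠ 1 := fun h => hv' (Subtype.ext h)
  rcases R.orbit (hcle hv) hw hv1 with rfl | rfl | rfl | rfl
  · exact one_mem _
  · exact hv
  · exact commutator_invar A φ hφ v hv
  · exact commutator_invar A φ hφ _ (commutator_invar A φ hφ v hv)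

end H2.ScnEmpty
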