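import Cfsg.Agent.H2.ScnEmpty.Moved
import Cfsg.Agent.H31.EightTools

/-!
Determination of the orders of the groups with `Φ = Z = X'` elementary of order at most 4:
a Gauss sum count of the square map.
-/

set_option autoImplicit false
set_option linter.unusedSectionVars false

namespace H2.ScnEmpty

open scoped commutatorElement

/-- The square of a quadratic Gauss sum. -/
theorem gauss {V : Type*} [Group V] [Fintype V] (f : V → ℤ) (β : V → V → ℤ)
    (hf : ∀ v, f v = 1 ∨ f v = -1) (hmul : ∀ v u, f (v * u) = f v * f u * β v u)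
    (hl : ∀ v v' u, β (v * v') u = β v u * β v' u) :
    (∑ v, f v) ^ 2 =
      Fintype.card V * ∑ u, (open Classical in if ∀ v, β v u = 1 then f u else 0) := by
  classical
  have hff : ∀ v, f v * f v = 1 := fun v => by rcases hf v with h | h <;> rw [h] <;> norm_num
  have hb : ∀ v u, β v u = 1 ∨ β v u = -1 := by
    intro v u
    have h : f (v * u) * f v * f u = β v u := by
      rw [hmul]
      linear_combination (β v u * f u * f u) * hff v + β v u * hff u
    rw [← h]
    rcases hf (v * u) with h1 | h1 <;> rcases hf v with h2 | h2 <;> rcases hf u with h3 | h3 <;>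
      rw [h1, h2, h3] <;> norm_num
  have hsum : ∀ u, ∑ v, β v u = if ∀ v, β v u = 1 then (Fintype.card V : ℤ) else 0 := by
    intro u
    split_ifs with h
    · simp [Finset.sum_congr rfl (fun v _ => h v)]
    · push Not at h
      obtain ⟨v0, hv0⟩ := h
      have h1 : ∑ v, β (v * v0) u = ∑ v, β v u :=
        Fintype.sum_equiv (Equiv.mulRight v0) _ _ (fun v => rfl)
      rw [Finset.sum_congr rfl (fun v _ => hl v v0 u), ← Finset.sum_mul,
        (hb v0 u).resolve_left hv0] at h1
      linarith
  calc (∑ v, f v) ^ 2 = ∑ v, ∑ w, f v * f w := by rw [pow_two, Finset.sum_mul_sum]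
    _ = ∑ v, ∑ u, f v * f (v * u) :=
        Finset.sum_congr rfl fun v _ => (Fintype.sum_equiv (Equiv.mulLeft v) _ _ fun u => rfl).symm
    _ = ∑ v, ∑ u, f u * β v u := Finset.sum_congr rfl fun v _ => Finset.sum_congr rfl fun u _ => by
        rw [hmul]; linear_combination (f u * β v u) * hff v
    _ = ∑ u, f u * ∑ v, β v u := by rw [Finset.sum_comm]; simp_rw [Finset.mul_sum]
    _ = _ := by
        rw [Finset.mul_sum]
        refine Finset.sum_congr rfl fun u _ => ?_
        rw [hsum]
        split_ifs <;> ring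

variable {X : Type*} [Group X]

open Classical in
/-- The character of `Ω₁Z` with kernel `{1, w}` (the nontrivial one if `w = 1`). -/
noncomputable def chi (w z : X) : ℤ := if z = 1 ∨ z = w then 1 else -1

theorem chi_cases (w z : X) : chi w z = 1 ∨ chi w z = -1 := by
  unfold chi; split_ifs <;> simp

theorem chi_one (w : X) : chi w (1 : X) = 1 := if_pos (Or.inl rfl)

theorem chi_self (w : X) : chi w w = 1 := if_pos (Or.inr rfl)

theorem chi_of_ne {w z : X} (h1 : z ≠ 1) (h2 : z ≠ w) : chi w z = -1 :=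
  if_neg (fun h => h.elim h1 h2)

theorem eq_of_chi {w z : X} (h : chi w z = 1) : z = 1 ∨ z = w := by
  by_contra hne
  push Not at hne
  rw [chi_of_ne hne.1 hne.2] at h
  norm_num at h

theorem chi_map (φ : MulAut X) (w z : X) : chi (φ w) (φ z) = chi w z := by
  unfold chi
  rw [φ.injective.eq_iff, show (φ z = 1 ↔ z = 1) from φ.map_eq_one_iff]

theorem chi_mul_of_four [Finite X] (h4 : Nat.card (zOne X) = 4) {w : X} (hw : w ∈ zOne X)
    (hw1 : w ≠ 1) {z z' : X} (hz : z ∈ zOne X) (hz' : z' ∈ zOne X) :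
    chi w (z * z') = chi w z * chi w z' := by
  by_cases hz1 : z = 1
  · rw [hz1, one_mul, chi_one, one_mul]
  by_cases hz1' : z' = 1
  · rw [hz1', mul_one, chi_one, mul_one]
  by_cases he : z = z'
  · subst he
    rw [hz.2, chi_one]
    rcases chi_cases w z with h | h <;> rw [h] <;> norm_num
  have h12 : z * z' ≠ 1 := fun h => he ((eq_inv_of_mul_eq_one_left h).trans (inv_eq_self hz'.2))
  have h13 : z * z' ≠ z := fun h => hz1' (mul_eq_left.mp h)
  have h14 : z * z' ≠ z' := fun h => hz1 (mul_eq_right.mp h)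
  rcases four_elements h4 hz hz' hw hz1 hz1' he with h | h | h | h
  · exact absurd h hw1
  · subst h; rw [chi_self, chi_of_ne h12 h13, chi_of_ne hz1' (Ne.symm he)]; norm_num
  · subst h; rw [chi_self, chi_of_ne h12 h14, chi_of_ne hz1 he]; norm_num
  · subst h; rw [chi_self, chi_of_ne hz1 (Ne.symm h13), chi_of_ne hz1' (Ne.symm h14)]; norm_num

variable [Finite X]

theorem two_elements (h2 : Nat.card (zOne X) = 2) {z u : X} (hz : z ∈ zOne X) (hu : u ∈ zOne X)
    (hz1 : z ≠ 1) : u = 1 ∨ u = z := by
  have hsub : ({1, z} : Set X) ⊆ (zOne X : Set X) := by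
    intro t ht
    simp only [Set.mem_insert_iff, Set.mem_singleton_iff] at ht
    rcases ht with rfl | rfl
    · exact one_mem _
    · exact hz
  have heq := Set.eq_of_subset_of_ncard_le hsub (by
    rw [Set.ncard_pair hz1.symm, ← Nat.card_coe_set_eq]; exact h2.le)
  have : u ∈ ({1, z} : Set X) := heq ▸ hu
  simpa using this

theorem chi_mul_of_two (h2 : Nat.card (zOne X) = 2) {z z' : X} (hz : z ∈ zOne X)
    (hz' : z' ∈ zOne X) : chi (1 : X) (z * z') = chi 1 z * chi 1 z' := by
  by_cases hz1 : z = 1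
  · rw [hz1, one_mul, chi_one, one_mul]
  by_cases hz1' : z' = 1
  · rw [hz1', mul_one, chi_one, mul_one]
  rcases two_elements h2 hz hz' hz1 with h | h
  · exact absurd h hz1'
  · rw [h, hz.2, chi_one, chi_of_ne hz1 hz1]; norm_num

variable {A : Subgroup (MulAut X)}

/-- No nontrivial coset of `Ω₁Z` is fixed by all of `A`. -/
theorem Setup.mem_of_fixed_mod (S : Setup A) (F : Final X) {r : X}
    (h : ∀ φ ∈ A, r⁻¹ * φ r ∈ zOne X) : r ∈ zOne X := by
  classical
  haveI : Fintype A := Fintype.ofFinite A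
  let P : X →* Abelianization X :=
    { toFun := fun x => ∏ φ : A, Abelianization.of ((φ : MulAut X) x)
      map_one' := by simp
      map_mul' := fun x y => by rw [← Finset.prod_mul_distrib]; simp }
  have hP : P r = 1 := S.eq_one_of_hom P (fun ψ hψ y => Fintype.prod_equiv
    (Equiv.mulRight (⟨ψ, hψ⟩ : A)) _ _ (fun φ => rfl)) r
  have hcomm : commutator X ≤ zOne X := by
    rw [commutator_def, Subgroup.commutator_le]
    exact fun x _ y _ => F.comm x y
  have h1 : ∀ φ : A, Abelianization.of ((φ : MulAut X) r) = Abelianization.of r := by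
    intro φ
    have hk : Abelianization.of (r⁻¹ * (φ : MulAut X) r) = 1 :=
      (QuotientGroup.eq_one_iff _).mpr (F.le_commutator (h φ φ.2))
    rwa [map_mul, map_inv, inv_mul_eq_one, eq_comm] at hk
  have hsq : Abelianization.of r * Abelianization.of r = 1 := by
    rw [← map_mul]; exact (QuotientGroup.eq_one_iff _).mpr (F.le_commutator (F.sq r))
  replace hP : ∏ φ : A, Abelianization.of ((φ : MulAut X) r) = 1 := hP
  rw [Finset.prod_congr rfl (fun φ _ => h1 φ), Finset.prod_const, Finset.card_univ,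
    ← Nat.card_eq_fintype_card] at hP
  obtain ⟨j, hj⟩ := S.odd
  rw [hj, pow_succ, pow_mul, pow_two, hsq, one_pow, one_mul] at hP
  exact hcomm ((QuotientGroup.eq_one_iff r).mp hP)

theorem thirty_two_dvd {T : ℤ} (h : 512 ∣ T * T) : 32 ∣ T := by
  have hp : Prime (2 : ℤ) := Int.prime_two
  have step : ∀ (a k : ℤ), 4 * k ∣ a * a → ∃ b, a = 2 * b ∧ k ∣ b * b := by
    intro a k hk
    have h2 : (2 : ℤ) ∣ a * a := dvd_trans ⟨2 * k, by ring⟩ hk
    obtain ⟨b, rfl⟩ := (hp.dvd_or_dvd h2).elim id id
    refine ⟨b, rfl, ?_⟩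
    rw [show 2 * b * (2 * b) = 4 * (b * b) by ring] at hk
    exact (mul_dvd_mul_iff_left (by norm_num : (4 : ℤ) ≠ 0)).mp hk
  obtain ⟨a, rfl, ha⟩ := step T 128 (by simpa using h)
  obtain ⟨b, rfl, hb⟩ := step a 32 (by simpa using ha)
  obtain ⟨c, rfl, hc⟩ := step b 8 (by simpa using hb)
  obtain ⟨d, rfl, hd⟩ := step c 2 (by simpa using hc)
  obtain ⟨e, rfl⟩ := (hp.dvd_or_dvd hd).elim id id
  exact ⟨e, by ring⟩

theorem Final.sq_mul' (F : Final X) (x y : X) :
    x * y * (x * y) = x * x * (y * y) * ⁅y, x⁆ := by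
  have hc := zOne_comm (F.comm y x) x
  calc x * y * (x * y) = x * (⁅y, x⁆ * x * y) * y := by
        simp only [commutatorElement_def]; group
    _ = x * ⁅y, x⁆ * x * (y * y) := by group
    _ = ⁅y, x⁆ * (x * x * (y * y)) := by rw [hc]; group
    _ = _ := (zOne_comm (F.comm y x) _).symm

theorem Final.commC (F : Final X) : ∀ x y : X, ⁅x, y⁆ ∈ Subgroup.center X :=
  fun x y => zOne_le_center (F.comm x y)

theorem Final.commutator_le_of_gen (F : Final X) {S : Set X} (hS : Subgroup.closure S = ⊤)
    (H : Subgroup X) (h : ∀ a ∈ S, ∀ b ∈ S, ⁅a, b⁆ ∈ H) : commutator X ≤ H := by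
  have h1 : ∀ a ∈ S, ∀ y : X, ⁅a, y⁆ ∈ H := by
    intro a ha y
    have hy : y ∈ Subgroup.closure S := hS ▸ Subgroup.mem_top y
    induction hy using Subgroup.closure_induction with
    | mem b hb => exact h a ha b hb
    | one => simp [commutatorElement_def]
    | mul u v _ _ hu hv => rw [comm_mul_right F.commC]; exact mul_mem hu hv
    | inv u _ hu =>
      have h' := comm_mul_right F.commC a u u⁻¹
      rw [mul_inv_cancel, show ⁅a, (1 : X)⁆ = 1 by simp [commutatorElement_def]] at h'
      rw [eq_inv_of_mul_eq_one_right h'.symm]; exact inv_mem hu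
  rw [commutator_def, Subgroup.commutator_le]
  intro x hx0 y _
  clear hx0
  have hx : x ∈ Subgroup.closure S := hS ▸ Subgroup.mem_top x
  induction hx using Subgroup.closure_induction with
  | mem b hb => exact h1 b hb y
  | one => simp [commutatorElement_def]
  | mul u v _ _ hu hv => rw [comm_mul_left F.commC]; exact mul_mem hu hv
  | inv u _ hu =>
    have h' := comm_mul_left F.commC u u⁻¹ y
    rw [mul_inv_cancel, show ⁅(1 : X), y⁆ = 1 by simp [commutatorElement_def]] at h'
    rw [eq_inv_of_mul_eq_one_right h'.symm]; exact inv_mem hu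

end H2.ScnEmpty
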